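import Cfsg.Agent.Lib.Involution.IndexTwo
import Cfsg.Agent.Lib.Involution.KleinSylow
import Cfsg.Agent.Lib.Transfer.Residual

/-!
# Elementary facts used for four-groups of outer automorphisms of groups with dihedral Sylow
-/

set_option autoImplicit false
set_option linter.unusedSectionVars false
set_option linter.style.haveILetI false

open Subgroup

namespace Cfsg.Agent.DihInner81

universe u

variable {G : Type u} [Group G] [Finite G]

/-- Any two involutions of `A` have a product of odd order. -/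
def OddProd (A : Subgroup G) : Prop :=
  ∀ u ∈ A, ∀ v ∈ A, orderOf u = 2 → orderOf v = 2 → Odd (orderOf (u * v))

/-- The involutions of a subgroup. -/
def invSet (A : Subgroup G) : Set G := {u | u ∈ A ∧ orderOf u = 2}

theorem OddProd.eq_of_commute {A : Subgroup G} (hA : OddProd A) {u v : G} (hu : u ∈ A) (hv : v ∈ A)
    (hu2 : orderOf u = 2) (hv2 : orderOf v = 2) (hc : u * v = v * u) : u = v := by
  have hu1 := Involution.mul_self_of_orderOf hu2
  have hv1 := Involution.mul_self_of_orderOf hv2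
  have h2 : (u * v) ^ 2 = 1 := by
    rw [Commute.mul_pow hc, sq, sq, hu1, hv1, one_mul]
  have h1 : orderOf (u * v) = 1 := by
    rcases (Nat.dvd_prime Nat.prime_two).1 (orderOf_dvd_of_pow_eq_one h2) with h | h
    · exact h
    · exact absurd (hA u hu v hv hu2 hv2) (by rw [h]; decide)
  rw [orderOf_eq_one_iff] at h1
  calc u = u * (v * v) := by rw [hv1, mul_one]
    _ = v := by rw [← mul_assoc, h1, one_mul]

theorem oddProd_of_cyclic (A : Subgroup G) (h : ∀ R : Sylow 2 ↥A, IsCyclic ↥(R : Subgroup ↥A)) :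
    OddProd A := by
  haveI : Fact (Nat.Prime 2) := ⟨Nat.prime_two⟩
  intro u hu v hv hu2 hv2
  obtain ⟨T⟩ := (inferInstance : Nonempty (Sylow 2 ↥A))
  haveI := h T
  have hu2' : orderOf (⟨u, hu⟩ : A) = 2 := by rw [orderOf_mk, hu2]
  have hv2' : orderOf (⟨v, hv⟩ : A) = 2 := by rw [orderOf_mk, hv2]
  have hev : 2 ∣ Nat.card A := hu2' ▸ orderOf_dvd_natCard _
  have hp : (Nat.card ↥A).minFac = 2 := (Nat.minFac_eq_two_iff _).mpr hev
  have hN := IsCyclic.normalizer_le_centralizer hp (h T)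
  set f := MonoidHom.transferSylow T hN with hf
  have hodd : ¬ 2 ∣ Nat.card f.ker := MonoidHom.not_dvd_card_ker_transferSylow T hN
  have hf2 : ∀ w : A, orderOf w = 2 → orderOf (f w) = 2 := by
    intro w hw
    rcases (Nat.dvd_prime Nat.prime_two).1 (hw ▸ orderOf_map_dvd f w) with h1 | h1
    · exfalso
      rw [orderOf_eq_one_iff] at h1
      apply hodd
      have := orderOf_dvd_natCard (⟨w, MonoidHom.mem_ker.2 h1⟩ : f.ker)
      rwa [orderOf_mk, hw] at this
    · exact h1
  have hker : (⟨u, hu⟩ * ⟨v, hv⟩ : A) ∈ f.ker := by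
    rw [MonoidHom.mem_ker, map_mul,
      Involution.involution_unique_of_isCyclic (hf2 _ hu2') (hf2 _ hv2')]
    exact Involution.mul_self_of_orderOf (hf2 _ hv2')
  have hd := orderOf_dvd_natCard (⟨_, hker⟩ : f.ker)
  rw [orderOf_mk, ← orderOf_coe] at hd
  rcases Nat.even_or_odd (orderOf (u * v)) with he | ho
  · exact absurd (dvd_trans (even_iff_two_dvd.1 he) hd) hodd
  · exact ho

/-- No element of `T` centralising a conjugate `t ≠ z` of `z` squares to `z`, when `z` is the only
involution which is a square in `T`. -/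
theorem false_of_sq (T : Sylow 2 G) {z t x : G} (hzT : ∀ s ∈ (T : Subgroup G), s * z = z * s)
    (hz : orderOf z = 2)
    (hne : t ≠ z) (hconj : IsConj t z)
    (hxT : x ∈ (T : Subgroup G)) (hxt : x * t = t * x) (hx2 : x * x = z)
    (hsq : ∀ y ∈ (T : Subgroup G), orderOf (y * y) = 2 → y * y = z) : False := by
  haveI : Fact (Nat.Prime 2) := ⟨Nat.prime_two⟩
  obtain ⟨g, hg⟩ := isConj_iff.1 hconj
  set C := centralizer ({z} : Set G) with hC
  have hTC : (T : Subgroup G) ≤ C := fun s hs => mem_centralizer_singleton_iff.2 (hzT s hs)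
  set y := g * x * g⁻¹ with hy
  have hyC : y ∈ C := by
    rw [hC, mem_centralizer_singleton_iff, ← hg, hy]
    calc g * x * g⁻¹ * (g * t * g⁻¹) = g * (x * t) * g⁻¹ := by group
      _ = g * (t * x) * g⁻¹ := by rw [hxt]
      _ = g * t * g⁻¹ * (g * x * g⁻¹) := by group
  obtain ⟨k, hk⟩ := T.isPGroup' ⟨x, hxT⟩
  have hyp : IsPGroup 2 (zpowers y) := by
    obtain ⟨j, -, hj⟩ := (Nat.dvd_prime_pow Nat.prime_two).1
      (orderOf_dvd_of_pow_eq_one (congrArg Subtype.val hk : x ^ 2 ^ k = 1))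
    refine IsPGroup.of_card (n := j) ?_
    rw [Nat.card_zpowers, hy, ← MulAut.conj_apply, MulEquiv.orderOf_eq, hj]
  obtain ⟨Q, hQ⟩ :=
    (hyp.of_equiv (subgroupOfEquivOfLe (zpowers_le.2 hyC)).symm).exists_le_sylow
  obtain ⟨c, hc⟩ := MulAction.exists_smul_eq C Q (T.subtype hTC)
  have hmem : c * ⟨y, hyC⟩ * c⁻¹ ∈ ((T.subtype hTC : Sylow 2 C) : Subgroup C) :=
    hc ▸ Involution.conj_mem_sylow_smul c (hQ (mem_subgroupOf.2 (mem_zpowers y)))
  have hmem' : (c : G) * y * (c : G)⁻¹ ∈ (T : Subgroup G) := mem_subgroupOf.1 hmem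
  set g' := (c : G) * g with hg'
  have hyy : (c : G) * y * (c : G)⁻¹ = g' * x * g'⁻¹ := by rw [hy, hg']; group
  rw [hyy] at hmem'
  have h1 : g' * x * g'⁻¹ * (g' * x * g'⁻¹) = g' * z * g'⁻¹ := by rw [← hx2]; group
  have h2 : g' * z * g'⁻¹ = z := by
    rw [← h1]
    refine hsq _ hmem' ?_
    rw [h1, ← MulAut.conj_apply, MulEquiv.orderOf_eq, hz]
  have h3 : g' * t * g'⁻¹ = z := by
    have hcz : (c : G) * z = z * c := mem_centralizer_singleton_iff.1 c.2
    rw [hg']
    calc (c : G) * g * t * ((c : G) * g)⁻¹ = c * (g * t * g⁻¹) * (c : G)⁻¹ := by group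
      _ = c * z * (c : G)⁻¹ := by rw [hg]
      _ = z := by rw [hcz, mul_inv_cancel_right]
  exact hne (mul_left_cancel (mul_right_cancel (h3.trans h2.symm)))

/-- One class of involutions when a Sylow 2-subgroup has a cyclic subgroup of index 2 and there is
no 2-quotient. -/
theorem isConj_of_residual (hO : Cfsg.pResidual 2 G = ⊤) (T : Sylow 2 G) (R : Subgroup G)
    [IsCyclic R] (hR : R ≤ (T : Subgroup G)) (hRi : R.relIndex (T : Subgroup G) = 2) {x y : G}
    (hx : orderOf x = 2) (hy : orderOf y = 2) : IsConj x y := by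
  have key : ∀ u : G, orderOf u = 2 → ∃ v ∈ R, IsConj u v ∧ orderOf v = 2 := by
    intro u hu
    by_contra hno
    push Not at hno
    obtain ⟨M, hM, hMi, huM⟩ := Involution.thompson_transfer T R hR hRi
      (Involution.mul_self_of_orderOf hu) (fun g hg => hno _ hg (isConj_iff.2 ⟨g, rfl⟩)
        (by rw [← MulAut.conj_apply, MulEquiv.orderOf_eq, hu]))
    haveI : Fact (Nat.Prime 2) := ⟨Nat.prime_two⟩
    have hle := Transfer.pResidual_le_of_index (p := 2) (N := M) (n := 1) (by rw [hMi, pow_one])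
    rw [hO, top_le_iff] at hle
    exact huM (hle ▸ mem_top u)
  obtain ⟨v, hv, hxv, hv2⟩ := key x hx
  obtain ⟨w, hw, hyw, hw2⟩ := key y hy
  have := Involution.involution_unique_of_isCyclic (a := (⟨v, hv⟩ : R)) (b := ⟨w, hw⟩)
    (by rw [orderOf_mk, hv2]) (by rw [orderOf_mk, hw2])
  have hvw : v = w := congrArg Subtype.val this
  rw [hvw] at hxv
  exact hxv.trans hyw.symm

end Cfsg.Agent.DihInner81
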