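import Cfsg.Agent.DihInner81.Basic

/-!
# Counting involutions through the centralisers of two commuting outer involutions
-/

set_option autoImplicit false
set_option linter.unusedSectionVars false

open Subgroup

namespace Cfsg.Agent.DihInner81

universe u

variable {G : Type u} [Group G] [Finite G]

/-- Involutions of `H` different from `z` and commuting with it. -/
def comSet (H : Subgroup G) (z : G) : Set G :=
  {y | y ∈ H ∧ orderOf y = 2 ∧ y ≠ z ∧ y * z = z * y}

theorem orderOf_conj (g x : G) : orderOf (g * x * g⁻¹) = orderOf x := by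
  rw [← MulAut.conj_apply, MulEquiv.orderOf_eq]

theorem conj_commute_iff (g x y : G) :
    g * x * g⁻¹ * (g * y * g⁻¹) = g * y * g⁻¹ * (g * x * g⁻¹) ↔ x * y = y * x := by
  rw [show g * x * g⁻¹ * (g * y * g⁻¹) = g * (x * y) * g⁻¹ by group,
    show g * y * g⁻¹ * (g * x * g⁻¹) = g * (y * x) * g⁻¹ by group]
  exact ⟨fun h => mul_left_cancel (mul_right_cancel h), fun h => by rw [h]⟩

theorem ncard_comSet_conj {H : Subgroup G} {g : G} (hg : ∀ x, g * x * g⁻¹ ∈ H ↔ x ∈ H) (z : G) :
    (comSet H (g * z * g⁻¹)).ncard = (comSet H z).ncard := by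
  rw [← Set.ncard_image_of_injective (comSet H z) (MulAut.conj g).injective]
  congr 1
  ext y
  constructor
  · rintro ⟨hy, hy2, hne, hc⟩
    refine ⟨g⁻¹ * y * g, ⟨?_, ?_, ?_, ?_⟩, by simp only [MulAut.conj_apply]; group⟩
    · rw [← hg]; simpa [mul_assoc] using hy
    · rw [← orderOf_conj g]; simpa [mul_assoc] using hy2
    · intro h; apply hne; rw [← h]; group
    · rw [← conj_commute_iff g]; simpa [mul_assoc] using hc
  · rintro ⟨x, ⟨hx, hx2, hne, hc⟩, rfl⟩
    simp only [MulAut.conj_apply]
    exact ⟨(hg x).2 hx, by rw [orderOf_conj, hx2],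
      fun h => hne (mul_left_cancel (mul_right_cancel h)), (conj_commute_iff g x z).2 hc⟩

theorem exists_conj {H : Subgroup G} {a z z' : G} (hz : orderOf z = 2) (hz' : orderOf z' = 2)
    (hzH : z ∈ H) (hzH' : z' ∈ H) (hodd : Odd (orderOf (z' * z))) (ha : a * z = z * a)
    (ha' : a * z' = z' * a) : ∃ g ∈ H, g * a = a * g ∧ g * z * g⁻¹ = z' := by
  obtain ⟨k, hk⟩ := hodd
  set d := z' * z with hd
  have hz1 := Involution.mul_self_of_orderOf hz
  have hz1' := Involution.mul_self_of_orderOf hz'
  have hzi : z⁻¹ = z := inv_eq_of_mul_eq_one_right hz1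
  have hzd : z * d * z⁻¹ = d⁻¹ := by
    rw [hd, mul_inv_rev, hzi, inv_eq_of_mul_eq_one_right hz1', mul_assoc, mul_assoc z' z z, hz1,
      mul_one]
  refine ⟨d ^ (k + 1), pow_mem (mul_mem hzH' hzH) _, ?_, ?_⟩
  · exact ((show Commute a z' from ha').mul_right (show Commute a z from ha)).pow_right _ |>.eq.symm
  · have h1 : z * (d ^ (k + 1))⁻¹ = d ^ (k + 1) * z := by
      rw [← inv_pow, ← hzd, conj_pow, hzi]
      calc z * (z * d ^ (k + 1) * z) = z * z * d ^ (k + 1) * z := by group
        _ = _ := by rw [hz1, one_mul]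
    calc d ^ (k + 1) * z * (d ^ (k + 1))⁻¹ = d ^ (k + 1) * (d ^ (k + 1) * z) := by
          rw [mul_assoc (d ^ (k + 1)) z, h1]
      _ = d ^ (2 * k + 1) * d * z := by
          rw [← mul_assoc, ← pow_add, ← pow_succ]; congr 2; omega
      _ = z' := by rw [← hk, pow_orderOf_eq_one, one_mul, hd, mul_assoc, hz1, mul_one]

variable (L : Subgroup G) [L.Normal]

/-- Each involution of `H` determines an involution of `C_L(a)`. -/
theorem card_invSet {H : Subgroup G} {a z : G} (hcov : ∀ g : G, g ∈ L ∨ a * g ∈ L)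
    (ha : orderOf a = 2) (haL : a ∉ L) (hzL : z ∈ L) (hz : orderOf z = 2) (haz : a * z = z * a)
    (hA : OddProd (L ⊓ centralizer {a})) (hB : OddProd (L ⊓ centralizer {a * z}))
    (hHL : H ≤ L) (hAH : invSet (L ⊓ centralizer {a}) ⊆ H)
    (hBH : invSet (L ⊓ centralizer {a * z}) ⊆ H) :
    (invSet H).ncard = (invSet (L ⊓ centralizer {a})).ncard *
      ((invSet (L ⊓ centralizer {a * z})).ncard + (comSet H z).ncard) := by
  classical
  have ha1 := Involution.mul_self_of_orderOf ha
  have hai := inv_eq_of_mul_eq_one_right ha1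
  set A := L ⊓ centralizer ({a} : Set G) with hAdef
  have memA : ∀ {x}, x ∈ A ↔ x ∈ L ∧ x * a = a * x := by
    intro x; rw [hAdef, mem_inf, mem_centralizer_singleton_iff]
  have hzA : z ∈ invSet A := ⟨memA.2 ⟨hzL, haz.symm⟩, hz⟩
  -- the involution of `A` attached to an involution of `H`
  have key : ∀ y : invSet H, ∃ z' : invSet A,
      (∀ x : G, x * a = a * x → x * (y : G) = (y : G) * x → x * (z' : G) = (z' : G) * x) ∧
      ((y : G) * z' = z' * y ∨ (y : G) * (a * z') = a * z' * y) := by
    rintro ⟨y, hy, hy2⟩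
    have hy1 := Involution.mul_self_of_orderOf hy2
    have hyi := inv_eq_of_mul_eq_one_right hy1
    rcases Nat.even_or_odd (orderOf (a * y)) with he | ho
    swap
    · exfalso
      obtain ⟨k, hk⟩ := ho
      set d := a * y with hd
      have h1 : a * (d ^ (k + 1))⁻¹ = d ^ (k + 1) * a := by
        have hconj : a * d * a⁻¹ = d⁻¹ := by
          rw [hd, mul_inv_rev, hai, hyi, ← mul_assoc a a y, ha1, one_mul]
        rw [← inv_pow, ← hconj, conj_pow, hai]
        calc a * (a * d ^ (k + 1) * a) = a * a * d ^ (k + 1) * a := by group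
          _ = _ := by rw [ha1, one_mul]
      have h2 : d ^ (k + 1) * a * (d ^ (k + 1))⁻¹ = a * y * a := by
        calc d ^ (k + 1) * a * (d ^ (k + 1))⁻¹ = d ^ (k + 1) * (d ^ (k + 1) * a) := by
              rw [mul_assoc (d ^ (k + 1)) a, h1]
          _ = d ^ (2 * k + 1) * d * a := by
              rw [← mul_assoc, ← pow_add, ← pow_succ]; congr 2; omega
          _ = a * y * a := by rw [← hk, pow_orderOf_eq_one, one_mul, hd]
      refine haL ?_
      have h3 : a = (d ^ (k + 1))⁻¹ * (a * y * a) * d ^ (k + 1) := by rw [← h2]; group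
      rw [h3]
      have h4 : a * y * a ∈ L := by
        have := Normal.conj_mem (inferInstance : L.Normal) y (hHL hy) a
        rwa [hai] at this
      simpa using Normal.conj_mem (inferInstance : L.Normal) _ h4 (d ^ (k + 1))⁻¹
    set w := (a * y) ^ (orderOf (a * y) / 2) with hw
    have hw2 : orderOf w = 2 :=
      orderOf_pow_orderOf_div (orderOf_pos _).ne' (even_iff_two_dvd.1 he)
    have hw1 := Involution.mul_self_of_orderOf hw2
    have hwi := inv_eq_of_mul_eq_one_right hw1
    have hwx : ∀ x : G, x * a = a * x → x * y = y * x → x * w = w * x := fun x h1 h2 =>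
      ((show Commute x a from h1).mul_right (show Commute x y from h2)).pow_right _ |>.eq
    have hwy : w * y = y * w := by
      have h1 : Commute w (a * y) := (Commute.refl _).pow_left _
      have h2 : w * a = a * w := by
        have h1' : a * w * a⁻¹ = w⁻¹ := by
          rw [hw, ← conj_pow, ← inv_pow, mul_inv_rev, hai, hyi, ← mul_assoc a a y, ha1, one_mul]
        rw [hwi, hai] at h1'
        calc w * a = a * w * a * a := by rw [h1']
          _ = a * w := by rw [mul_assoc, ha1, mul_one]
      calc w * y = w * a * (a * y) * 1 := by rw [mul_one, mul_assoc, ← mul_assoc a a y, ha1, one_mul]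
        _ = a * (w * (a * y)) := by rw [h2, mul_one, mul_assoc]
        _ = a * (a * y * w) := by rw [h1.eq]
        _ = y * w := by rw [← mul_assoc, ← mul_assoc, ha1, one_mul]
    have hwa : w * a = a * w := by
      have h1 : a * w * a⁻¹ = w⁻¹ := by
        rw [hw, ← conj_pow, ← inv_pow, mul_inv_rev, hai, hyi, ← mul_assoc a a y, ha1, one_mul]
      rw [hwi, hai] at h1
      calc w * a = a * w * a * a := by rw [h1]
        _ = a * w := by rw [mul_assoc, ha1, mul_one]
    rcases hcov w with hwL | hwL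
    · exact ⟨⟨w, memA.2 ⟨hwL, hwa⟩, hw2⟩, hwx, Or.inl hwy.symm⟩
    · have hne : a * w ≠ 1 := by
        intro h
        have hwa' : w = a := (inv_eq_of_mul_eq_one_right h).symm.trans hai
        have hcomm : a * y = y * a := by
          have h1 : Commute w (a * y) := (Commute.refl _).pow_left _
          rw [hwa'] at h1
          have h2 : y = a * y * a := by
            calc y = a * (a * y) := by rw [← mul_assoc, ha1, one_mul]
              _ = a * y * a := h1.eq
          calc a * y = a * (a * y * a) := by rw [← h2]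
            _ = y * a := by rw [mul_assoc a y a, ← mul_assoc a a, ha1, one_mul]
        have ho : orderOf (a * y) = 2 := by
          refine Involution.orderOf_eq_two_iff'.2 ⟨?_, fun h' => haL ?_⟩
          · rw [show a * y * (a * y) = a * (y * a) * y by group, ← hcomm,
              show a * (a * y) * y = a * a * (y * y) by group, ha1, hy1, one_mul]
          · rw [mul_eq_one_iff_eq_inv.1 h', hyi]; exact hHL hy
        rw [hw, ho, Nat.div_self two_pos, pow_one] at hwa'
        exact Involution.ne_one_of_orderOf hy2 (mul_eq_left.1 hwa')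
      refine ⟨⟨a * w, memA.2 ⟨hwL, by rw [mul_assoc, hwa]⟩,
        Involution.orderOf_eq_two_iff'.2 ⟨?_, hne⟩⟩, fun x h1 h2 => ?_, Or.inr ?_⟩
      · rw [show a * w * (a * w) = a * (w * a) * w by group, hwa,
          show a * (a * w) * w = a * a * (w * w) by group, ha1, hw1, one_mul]
      · exact ((show Commute x a from h1).mul_right (hwx x h1 h2 : Commute x w)).eq
      · simp only [← mul_assoc, ha1, one_mul]
        rw [← hwy]
  choose f hf hf' using key
  have huniq : ∀ (y : invSet H) (x : invSet A), (x : G) * (y : G) = (y : G) * x → f y = x := by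
    intro y x hxy
    exact Subtype.ext (hA.eq_of_commute (f y).2.1 x.2.1 (f y).2.2 x.2.2
      (hf y x (memA.1 x.2.1).2 hxy).symm)
  have huniq' : ∀ (y : invSet H) (x : invSet A),
      a * (x : G) * (y : G) = (y : G) * (a * x) → f y = x := by
    intro y x hxy
    refine Subtype.ext (hA.eq_of_commute (f y).2.1 x.2.1 (f y).2.2 x.2.2 ?_)
    have hxa : (x : G) * a = a * x := (memA.1 x.2.1).2
    have h1 : Commute (a * (x : G)) (f y : G) :=
      hf y (a * x) (by rw [mul_assoc, hxa]) hxy
    have h2 : Commute a (f y : G) := (memA.1 (f y).2.1).2.symm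
    have h3 : Commute (a * (a * (x : G))) (f y : G) := h2.mul_left h1
    rw [← mul_assoc, ha1, one_mul] at h3
    exact h3.eq.symm
  have hfib : ∀ z' : invSet A, Nat.card {y : invSet H // f y = z'} =
      (invSet (L ⊓ centralizer {a * z})).ncard + (comSet H z).ncard := by
    rintro ⟨z', hz'A, hz'2⟩
    obtain ⟨hz'L, hz'a⟩ := memA.1 hz'A
    obtain ⟨g, hgH, hga, hgz⟩ := exists_conj hz hz'2 (hAH hzA) (hAH ⟨hz'A, hz'2⟩)
      (hA z' hz'A z hzA.1 hz'2 hz) haz hz'a.symm
    have hgH' : ∀ x, g * x * g⁻¹ ∈ H ↔ x ∈ H := fun x => by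
      rw [H.mul_mem_cancel_right (inv_mem hgH), H.mul_mem_cancel_left hgH]
    have hgaz : g * (a * z) * g⁻¹ = a * z' := by
      rw [← hgz, ← mul_assoc g a z, hga]; group
    set B' := L ⊓ centralizer ({a * z'} : Set G) with hB'def
    have memB : ∀ {x}, x ∈ B' ↔ x ∈ L ∧ x * (a * z') = a * z' * x := by
      intro x; rw [hB'def, mem_inf, mem_centralizer_singleton_iff]
    have hBimg : invSet B' = MulAut.conj g '' invSet (L ⊓ centralizer {a * z}) := by
      ext y
      constructor
      · rintro ⟨hy, hy2⟩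
        obtain ⟨hyL, hyc⟩ := memB.1 hy
        refine ⟨g⁻¹ * y * g, ⟨mem_inf.2 ⟨?_, mem_centralizer_singleton_iff.2 ?_⟩, ?_⟩,
          by simp only [MulAut.conj_apply]; group⟩
        · simpa using Normal.conj_mem (inferInstance : L.Normal) y hyL g⁻¹
        · rw [← conj_commute_iff g, hgaz]; simpa [mul_assoc] using hyc
        · rw [← orderOf_conj g]; simpa [mul_assoc] using hy2
      · rintro ⟨x, ⟨hx, hx2⟩, rfl⟩
        obtain ⟨hxL, hxc⟩ := mem_inf.1 hx
        simp only [MulAut.conj_apply]
        refine ⟨memB.2 ⟨Normal.conj_mem inferInstance _ hxL g, ?_⟩, by rw [orderOf_conj, hx2]⟩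
        rw [← hgaz, conj_commute_iff]
        exact mem_centralizer_singleton_iff.1 hxc
    have hB' : invSet B' ⊆ H := by
      rw [hBimg]
      rintro _ ⟨x, hx, rfl⟩
      exact (hgH' x).2 (hBH hx)
    have hdisj : Disjoint (invSet B') (comSet H z') := by
      rw [Set.disjoint_left]
      rintro y hy ⟨-, -, hne, hc⟩
      rw [hBimg] at hy
      obtain ⟨x, hx, rfl⟩ := hy
      refine hne ?_
      simp only [MulAut.conj_apply] at hc ⊢
      have hxz : x * z = z * x := (conj_commute_iff g x z).1 (by rw [hgz]; exact hc)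
      rw [hB.eq_of_commute hx.1 (mem_inf.2 ⟨hzL, mem_centralizer_singleton_iff.2
        (by rw [← mul_assoc, ← haz])⟩) hx.2 hz hxz, hgz]
    rw [← ncard_comSet_conj hgH' z, hgz,
      ← Set.ncard_image_of_injective (invSet (L ⊓ centralizer {a * z})) (MulAut.conj g).injective,
      ← hBimg, ← Set.ncard_union_eq hdisj, ← Nat.card_coe_set_eq]
    refine Nat.card_congr ⟨fun y => ⟨y.1.1, ?_⟩, fun y => ⟨⟨y.1, ?_⟩, ?_⟩, fun y => rfl, fun y => rfl⟩
    · obtain ⟨⟨y, hy, hy2⟩, hfy⟩ := y
      have hy1 := Involution.mul_self_of_orderOf hy2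
      by_cases hc : y * z' = z' * y
      · by_cases hyz : y = z'
        · refine Or.inl ⟨memB.2 ⟨hHL hy, ?_⟩, hy2⟩
          show y * (a * z') = a * z' * y
          rw [hyz, ← mul_assoc, hz'a, mul_assoc]
        · exact Or.inr ⟨hy, hy2, hyz, hc⟩
      · refine Or.inl ⟨memB.2 ⟨hHL hy, ?_⟩, hy2⟩
        have := hf' ⟨y, hy, hy2⟩
        rw [congrArg Subtype.val hfy] at this
        exact this.resolve_left hc
    · rcases y.2 with h | h
      · exact ⟨hB' h, h.2⟩
      · exact ⟨h.1, h.2.1⟩
    · rcases y.2 with h | h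
      · exact huniq' _ ⟨z', hz'A, hz'2⟩ (memB.1 h.1).2.symm
      · exact huniq _ ⟨z', hz'A, hz'2⟩ h.2.2.2.symm
  haveI : Fintype ↑(invSet A) := Fintype.ofFinite _
  rw [← Nat.card_coe_set_eq, ← Nat.card_congr (Equiv.sigmaFiberEquiv f), Nat.card_sigma]
  simp only [hfib, Finset.sum_const, Finset.card_univ, smul_eq_mul]
  rw [← Nat.card_eq_fintype_card, Nat.card_coe_set_eq]

end Cfsg.Agent.DihInner81
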