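import Cfsg.Agent.DihInner81.Frame
import Cfsg.Agent.DihInner81.Count
import Cfsg.Agent.Blocks88.Modular
import Cfsg.Agent.Lib.BlocksCore.KleinBlock
import Cfsg.Agent.BlkChar.SmallCofactorFour
import Cfsg.Agent.S4479
import Cfsg.Agent.S4481
import Cfsg.Agent.S4482
import Cfsg.Agent.S0948
import Mathlib.RingTheory.RootsOfUnity.Complex

/-!
# Few four-groups through an involution of a simple group with dihedral Sylow 2-subgroups
-/

set_option autoImplicit false
set_option linter.unusedSectionVars false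
set_option linter.style.haveILetI false

open Subgroup Cfsg

namespace Cfsg.Agent.DihInner81

universe u

variable {X : Type u} [Group X] [Finite X]

theorem ncard_range_conj (C : Subgroup X) (x : X) :
    (Set.range fun c : C => (c : X) * x * (c : X)⁻¹).ncard *
      Nat.card ↥(C ⊓ centralizer ({x} : Set X)) = Nat.card C := by
  rw [← subgroupOf_map_subtype (centralizer ({x} : Set X)) C |>.trans (inf_comm _ _),
    card_map_of_injective C.subtype_injective,
    ← index_mul_card ((centralizer ({x} : Set X)).subgroupOf C), ← Nat.card_coe_set_eq]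
  congr 1
  have hiff : ∀ c d : C, (c : X) * x * (c : X)⁻¹ = d * x * (d : X)⁻¹ ↔
      c⁻¹ * d ∈ (centralizer ({x} : Set X)).subgroupOf C := by
    intro c d
    rw [mem_subgroupOf, mem_centralizer_singleton_iff]
    push_cast
    constructor
    · intro h
      calc (c : X)⁻¹ * d * x = (c : X)⁻¹ * (d * x * (d : X)⁻¹) * d := by group
        _ = x * ((c : X)⁻¹ * d) := by rw [← h]; group
    · intro h
      calc (c : X) * x * (c : X)⁻¹ = c * (x * ((c : X)⁻¹ * d)) * (d : X)⁻¹ := by group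
        _ = c * ((c : X)⁻¹ * d * x) * (d : X)⁻¹ := by rw [h]
        _ = d * x * (d : X)⁻¹ := by group
  refine (Nat.card_eq_of_bijective
    (fun q : C ⧸ (centralizer ({x} : Set X)).subgroupOf C => Quotient.liftOn' q
      (fun c => (⟨_, c, rfl⟩ : Set.range fun c : C => (c : X) * x * (c : X)⁻¹))
      (fun c d h => Subtype.ext ((hiff c d).2 (QuotientGroup.leftRel_apply.1 h)))) ⟨?_, ?_⟩).symm
  · intro q r h
    induction q using QuotientGroup.induction_on with
    | H c =>
      induction r using QuotientGroup.induction_on with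
      | H d => exact QuotientGroup.eq.2 ((hiff c d).1 (congrArg Subtype.val h))
  · rintro ⟨_, c, rfl⟩
    exact ⟨QuotientGroup.mk c, rfl⟩

theorem inv_mul_centralizer {z : X} (hz : orderOf z = 2)
    (hone : ∀ p : X, orderOf p = 2 → IsConj z p) :
    (invSet (⊤ : Subgroup X)).ncard * Nat.card (centralizer ({z} : Set X)) = Nat.card X := by
  have h := ncard_range_conj (⊤ : Subgroup X) z
  rw [top_inf_eq, card_top] at h
  convert h using 3
  ext p
  constructor
  · rintro ⟨-, hp⟩
    obtain ⟨g, hg⟩ := isConj_iff.1 (hone p hp)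
    exact ⟨⟨g, mem_top g⟩, hg⟩
  · rintro ⟨g, rfl⟩
    exact ⟨mem_top _, by rw [orderOf_conj, hz]⟩

/-- Involutions commuting with `z` fall into two classes of its centraliser. -/
theorem com_le (S : Sylow 2 X) {z σ τ : X} {j : ℕ} (F : Frame (S : Subgroup X) z σ τ j) :
    ((comSet (⊤ : Subgroup X) z).ncard : ℚ) ≤
      (Nat.card (centralizer ({z} : Set X)) : ℚ) *
        (1 / (Nat.card (centralizer ({z, τ} : Set X)) : ℚ) +
          1 / (Nat.card (centralizer ({z, σ * τ} : Set X)) : ℚ)) := by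
  haveI : Fact (Nat.Prime 2) := ⟨Nat.prime_two⟩
  set C := centralizer ({z} : Set X) with hC
  have hzc : ∀ s ∈ (S : Subgroup X), s * z = z * s := by
    intro s hs
    obtain ⟨l, hl⟩ := mem_zpowers_iff.1 F.z_mem
    have hcz : ∀ t ∈ zpowers σ, t * z = z * t := by
      intro t ht
      obtain ⟨i, rfl⟩ := mem_zpowers_iff.1 ht
      rw [← hl, ← zpow_add, ← zpow_add, add_comm]
    by_cases hsR : s ∈ zpowers σ
    · exact hcz s hsR
    · obtain ⟨i, rfl⟩ := F.exists_reflection hs hsR
      exact ((show Commute τ z from F.tau_commute_z).mul_left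
        (show Commute (σ ^ i) z from hcz _ (zpow_mem (mem_zpowers σ) i))).eq
  have hSC : (S : Subgroup X) ≤ C := fun s hs => mem_centralizer_singleton_iff.2 (hzc s hs)
  have hz1 := Involution.mul_self_of_orderOf F.orderOf_z
  have hσC : σ ∈ C := hSC F.sigma_mem
  have key : comSet (⊤ : Subgroup X) z ⊆
      (Set.range fun c : C => (c : X) * τ * (c : X)⁻¹) ∪
        (Set.range fun c : C => (c : X) * (σ * τ) * (c : X)⁻¹) := by
    rintro y ⟨-, hy2, hyz, hyc⟩
    have hyC : y ∈ C := mem_centralizer_singleton_iff.2 hyc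
    have hp : IsPGroup 2 (zpowers (⟨y, hyC⟩ : C)) := IsPGroup.of_card (n := 1) (by
      rw [Nat.card_zpowers, orderOf_mk, hy2]; rfl)
    obtain ⟨Q, hQ⟩ := hp.exists_le_sylow
    obtain ⟨c, hc⟩ := MulAction.exists_smul_eq C Q (S.subtype hSC)
    have hmem : c * ⟨y, hyC⟩ * c⁻¹ ∈ ((S.subtype hSC : Sylow 2 C) : Subgroup C) :=
      hc ▸ Involution.conj_mem_sylow_smul c (hQ (mem_zpowers _))
    have hmem' : (c : X) * y * (c : X)⁻¹ ∈ (S : Subgroup X) := mem_subgroupOf.1 hmem
    have hnR : (c : X) * y * (c : X)⁻¹ ∉ zpowers σ := by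
      intro h
      have h1 := F.eq_z h (by rw [orderOf_conj, hy2])
      refine hyz ?_
      have hcz : (c : X) * z = z * c := mem_centralizer_singleton_iff.1 c.2
      calc y = (c : X)⁻¹ * ((c : X) * y * (c : X)⁻¹) * c := by group
        _ = (c : X)⁻¹ * (z * c) := by rw [h1, mul_assoc]
        _ = z := by rw [← hcz, inv_mul_cancel_left]
    obtain ⟨l, hl⟩ := F.exists_reflection hmem' hnR
    have hy : y = (c : X)⁻¹ * (τ * σ ^ l) * c := by rw [← hl]; group
    have hστ : σ * τ = τ * σ ^ (-1 : ℤ) := by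
      rw [zpow_neg_one, ← F.inv, ← mul_assoc, ← mul_assoc, F.tau_sq, one_mul]
    have hconj : ∀ m i : ℤ, σ ^ m * (τ * σ ^ i) * (σ ^ m)⁻¹ = τ * σ ^ (i - 2 * m) := by
      intro m i
      have h1 : σ ^ m * τ = τ * σ ^ (-m) := by
        rw [← F.tau_conj m, ← mul_assoc, ← mul_assoc, F.tau_sq, one_mul]
      calc σ ^ m * (τ * σ ^ i) * (σ ^ m)⁻¹ = σ ^ m * τ * σ ^ i * (σ ^ m)⁻¹ := by group
        _ = τ * σ ^ (-m) * σ ^ i * (σ ^ m)⁻¹ := by rw [h1]
        _ = _ := by rw [← zpow_neg, mul_assoc, mul_assoc, ← zpow_add, ← zpow_add]; congr 2; ring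
    rcases Int.even_or_odd l with ⟨m, rfl⟩ | ⟨m, rfl⟩
    · refine Or.inl ⟨c⁻¹ * ⟨σ, hσC⟩ ^ (-m), ?_⟩
      have := hconj (-m) 0
      rw [zpow_zero, mul_one, show (0 : ℤ) - 2 * -m = m + m by ring] at this
      rw [hy, ← this]
      push_cast
      group
    · refine Or.inr ⟨c⁻¹ * ⟨σ, hσC⟩ ^ (-(m + 1)), ?_⟩
      have := hconj (-(m + 1)) (-1)
      rw [← hστ, show (-1 : ℤ) - 2 * -(m + 1) = 2 * m + 1 by ring] at this
      rw [hy, ← this]
      push_cast
      group
  have hrange : ∀ x : X, ((Set.range fun c : C => (c : X) * x * (c : X)⁻¹).ncard : ℚ) =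
      (Nat.card C : ℚ) * (1 / (Nat.card (centralizer ({z, x} : Set X)) : ℚ)) := by
    intro x
    have h := ncard_range_conj C x
    rw [show C ⊓ centralizer ({x} : Set X) = centralizer ({z, x} : Set X) by
      ext g; simp [hC, mem_centralizer_iff]] at h
    have h0 : (Nat.card (centralizer ({z, x} : Set X)) : ℚ) ≠ 0 :=
      Nat.cast_ne_zero.2 Nat.card_pos.ne'
    rw [← h, Nat.cast_mul, mul_assoc, mul_one_div_cancel h0, mul_one]
  have h := (Set.ncard_le_ncard key).trans (Set.ncard_union_le _ _)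
  have h' : ((comSet (⊤ : Subgroup X) z).ncard : ℚ) ≤
      ((Set.range fun c : C => (c : X) * τ * (c : X)⁻¹).ncard : ℚ) +
        ((Set.range fun c : C => (c : X) * (σ * τ) * (c : X)⁻¹).ncard : ℚ) := by exact_mod_cast h
  rw [hrange, hrange] at h'
  linarith

theorem dihedral_ineq {P R x d δ : ℚ} (hδ : δ = 1 ∨ δ = -1) (hd : 1 ≤ d) (hd' : δ = -1 → 3 ≤ d)
    (hne : d ≠ δ) (hR : R ≤ x) (hR0 : 0 ≤ R) (hP : P * (d - δ) ^ 2 = 2 * d * (d + δ) * x ^ 2) :
    3 * R ^ 2 ≤ 4 * P := by
  have hR2 : R ^ 2 ≤ x ^ 2 := by nlinarith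
  rcases hδ with rfl | rfl
  · have h : 1 < d := lt_of_le_of_ne hd (Ne.symm hne)
    have h2 : 0 < (d - 1) ^ 2 := by nlinarith
    have h3 : 3 * (d - 1) ^ 2 ≤ 8 * d * (d + 1) := by nlinarith
    refine le_of_mul_le_mul_right ?_ h2
    nlinarith [mul_le_mul_of_nonneg_right h3 (sq_nonneg R),
      mul_le_mul_of_nonneg_left hR2 (by positivity : (0 : ℚ) ≤ 8 * d * (d + 1))]
  · have h3d := hd' rfl
    have h2 : 0 < (d - -1) ^ 2 := by nlinarith
    have h3 : 3 * (d - -1) ^ 2 ≤ 8 * d * (d + -1) := by nlinarith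
    refine le_of_mul_le_mul_right ?_ h2
    nlinarith [mul_le_mul_of_nonneg_right h3 (sq_nonneg R),
      mul_le_mul_of_nonneg_left hR2 (by nlinarith : (0 : ℚ) ≤ 8 * d * (d + -1))]

theorem klein_ineq {x y w ε : ℚ} (hε : ε = 1 ∨ ε = -1) (hx : 5 ≤ x) (hy : ε = 1 → 5 ≤ y)
    (hy' : 3 ≤ y) (hw : 3 ≤ w) : 3 / 8 < x * y * w / ((x + 1) * (y + ε) * (w + -1)) := by
  have hxy : 0 ≤ x * y := by nlinarith
  rcases hε with rfl | rfl
  · have hy5 := hy rfl
    rw [lt_div_iff₀ (by have : 0 < w + -1 := by linarith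
                        positivity)]
    have h1 : (x + 1) * (y + 1) ≤ 2 * (x * y) := by nlinarith
    nlinarith [mul_le_mul_of_nonneg_right h1 (by linarith : 0 ≤ w + -1)]
  · rw [lt_div_iff₀ (by
      have : 0 < w + -1 := by linarith
      have : 0 < y + -1 := by linarith
      positivity)]
    have h1 : (x + 1) * (y + -1) ≤ 2 * (x * y) := by nlinarith
    nlinarith [mul_le_mul_of_nonneg_right h1 (by linarith : 0 ≤ w + -1)]

/-- The bound coming from the principal 2-block. -/
theorem brauer_bound [IsSimpleGroup X] (hna : ¬ IsMulCommutative X) (S : Sylow 2 X) {n : ℕ}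
    (e : ↥(S : Subgroup X) ≃* DihedralGroup n) {z σ τ : X} {j : ℕ}
    (F : Frame (S : Subgroup X) z σ τ j) (hone : ∀ p q : X, orderOf p = 2 → orderOf q = 2 → IsConj p q) :
    3 * (comSet (⊤ : Subgroup X) z).ncard ^ 2 ≤ 4 * (invSet (⊤ : Subgroup X)).ncard ∧
      (j = 0 → 3 * (comSet (⊤ : Subgroup X) z).ncard ^ 2 <
        4 * (invSet (⊤ : Subgroup X)).ncard) := by
  haveI : Fact (Nat.Prime 2) := ⟨Nat.prime_two⟩
  haveI := Fintype.ofFinite X
  obtain ⟨M, hM⟩ := Blocks88.exists_isPModular Nat.prime_two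
  set R := (comSet (⊤ : Subgroup X) z).ncard with hRdef
  set P := (invSet (⊤ : Subgroup X)).ncard with hPdef
  have hcard : Nat.card (S : Subgroup X) = 2 * 2 ^ (j + 1) := by
    have hle := F.zpowers_le
    rw [← card_mul_index ((zpowers σ).subgroupOf (S : Subgroup X))]
    have hi : ((zpowers σ).subgroupOf (S : Subgroup X)).index = 2 := by
      rw [index_eq_two_iff]
      refine ⟨⟨τ, F.tau_mem⟩, fun y => ?_⟩
      rw [mem_subgroupOf, mem_subgroupOf, coe_mul, xor_iff_not_iff']
      constructor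
      · intro h1
        rcases em ((y : X) ∈ zpowers σ) with hy | hy
        · exact hy
        · exact absurd (F.mul_mem_zpowers y.2 F.tau_mem hy F.tau_not) h1
      · intro (h2 : (y : X) ∈ zpowers σ) (h1 : (y : X) * τ ∈ zpowers σ)
        exact F.tau_not (by simpa using mul_mem (inv_mem h2) h1)
    rw [hi, Nat.card_congr (subgroupOfEquivOfLe hle).toEquiv, Nat.card_zpowers, F.order, mul_comm]
  have hn : n = 2 ^ (j + 1) := by
    have := Nat.card_congr e.toEquiv
    rw [hcard, DihedralGroup.nat_card] at this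
    omega
  subst hn
  have hz := F.orderOf_z
  have hone' : ∀ p : X, orderOf p = 2 → IsConj z p := fun p hp => hone z p hz hp
  have hc0 : (0 : ℚ) < Nat.card (centralizer ({z} : Set X)) := Nat.cast_pos.2 Nat.card_pos
  have hPc : (P : ℚ) * Nat.card (centralizer ({z} : Set X)) = Nat.card X := by
    exact_mod_cast inv_mul_centralizer hz hone'
  have hR := com_le S F
  have hR0 : (0 : ℚ) ≤ R := Nat.cast_nonneg _
  rcases Nat.eq_zero_or_pos j with rfl | hj
  · -- four-group
    have hP4 : IsKleinFour (S : Subgroup X) := by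
      constructor
      · rw [hcard]; rfl
      · rw [Monoid.exponent_eq_of_mulEquiv e]; exact DihedralGroup.exponent.trans (by rfl)
    obtain ⟨ζ₂, ζ₃, ζ₄, ε, hε, h2, h3, h23, h24, h34, hB, hval, hd2, hd3, hd4, -⟩ :=
      S0948.result M hM S hP4 hone
    obtain ⟨hv2, hv3, hv4⟩ := hval z hz
    have h4 : (ζ₄ : X → ℂ) ≠ fun _ => 1 := by
      intro h
      rw [h] at hv4
      norm_num at hv4
    have hlin : ∀ χ : IrrCharacter X, (χ : X → ℂ) ≠ (fun _ => 1) →
        charDegree (χ : X → ℂ) ≠ 1 ∧ 0 < charDegree (χ : X → ℂ) := fun χ hχ =>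
      ⟨fun h => hχ (BlkChar.CofFour.eq_one_of_linear hna χ
        (by rw [BlocksCore.irr_one_eq χ, h, Nat.cast_one])), BlocksCore.charDegree_pos χ⟩
    obtain ⟨hx1, hx0⟩ := hlin ζ₂ h2
    obtain ⟨hy1, hy0⟩ := hlin ζ₃ h3
    obtain ⟨hw1, hw0⟩ := hlin ζ₄ h4
    obtain ⟨g₀, hg₀, hg⟩ : ∃ g₀, Odd g₀ ∧ Nat.card X = 4 * g₀ := by
      refine ⟨(S : Subgroup X).index, Nat.odd_iff.2 ?_, ?_⟩
      · have := S.not_dvd_index
        omega
      · rw [← card_mul_index (S : Subgroup X), hcard]; norm_num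
    have hnc : ¬ ∃ N : Subgroup X, N.Normal ∧ Nat.card N = g₀ := by
      rintro ⟨N, hN, hNc⟩
      rcases hN.eq_bot_or_eq_top with h | h
      · rw [h, card_bot] at hNc
        refine hna ?_
        have h1 : ((S : Subgroup X)) = ⊤ := eq_top_of_card_eq _ (by rw [hcard, hg, ← hNc]; norm_num)
        haveI := hP4
        exact ⟨⟨fun a b => congrArg Subtype.val
          (mul_comm_of_exponent_two (IsKleinFour.exponent_two (G := (S : Subgroup X)))
            (⟨a, h1 ▸ mem_top a⟩ : (S : Subgroup X)) ⟨b, h1 ▸ mem_top b⟩)⟩⟩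
      · rw [h, card_top, hg] at hNc
        have := hg₀.pos
        omega
    have hzS : z ∈ (S : Subgroup X) := F.zpowers_le F.z_mem
    have hα := S4479.result M hM g₀ hg₀ hg hnc S z hzS hz ζ₂ ζ₃ ζ₄ 1 ε (-1) hB
      ⟨h2, h3, h4, h23, h24, h34⟩ ⟨Or.inl rfl, hε, Or.inr rfl⟩
      ⟨by rw [hv2]; simp, hv3, by rw [hv4]; simp⟩
    have hC1 : centralizer ({z, τ} : Set X) = centralizer ((S : Subgroup X) : Set X) ∧
        centralizer ({z, σ * τ} : Set X) = centralizer ((S : Subgroup X) : Set X) := by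
      have hσz : σ = z := by simpa using F.half
      have hS' : ∀ s ∈ (S : Subgroup X), s ∈ closure ({z, τ} : Set X) := by
        intro s hs
        by_cases hsR : s ∈ zpowers σ
        · exact zpowers_le.2 (show z ∈ closure ({z, τ} : Set X) from Subgroup.subset_closure (Or.inl rfl)) (hσz ▸ hsR)
        · obtain ⟨i, rfl⟩ := F.exists_reflection hs hsR
          exact mul_mem (Subgroup.subset_closure (Or.inr rfl))
            (zpow_mem (hσz.symm ▸ (show z ∈ closure ({z, τ} : Set X) from Subgroup.subset_closure (Or.inl rfl))) i)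
      have e1 : centralizer ({z, τ} : Set X) = centralizer ((S : Subgroup X) : Set X) := by
        refine le_antisymm ?_ (centralizer_le ?_)
        · rw [← centralizer_closure ({z, τ} : Set X)]
          exact centralizer_le hS'
        · rintro s (rfl | rfl)
          · exact hzS
          · exact F.tau_mem
      refine ⟨e1, ?_⟩
      rw [← e1]
      ext g
      rw [hσz]
      simp only [mem_centralizer_iff, Set.forall_mem_insert, Set.mem_singleton_iff, forall_eq]
      refine and_congr_right fun h => ⟨fun h' => ?_, fun h' => ?_⟩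
      · exact mul_left_cancel (a := z) (by
          calc z * (τ * g) = z * τ * g := (mul_assoc z τ g).symm
            _ = g * (z * τ) := h'
            _ = z * (g * τ) := by rw [← mul_assoc, ← h, mul_assoc])
      · rw [mul_assoc, h', ← mul_assoc, h, mul_assoc]
    rw [hC1.1, hC1.2] at hR
    set c := (Nat.card (centralizer ({z} : Set X)) : ℚ)
    set v := (Nat.card (centralizer ((S : Subgroup X) : Set X)) : ℚ) with hv
    have hv0 : (0 : ℚ) < v := Nat.cast_pos.2 Nat.card_pos
    set x := (charDegree (ζ₂ : X → ℂ) : ℚ) with hx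
    set y := (charDegree (ζ₃ : X → ℂ) : ℚ) with hy
    set w := (charDegree (ζ₄ : X → ℂ) : ℚ) with hw
    have hkl : 3 / 8 < x * y * w / ((x + 1) * (y + (ε : ℚ)) * (w + -1)) := by
      refine klein_ineq (by rcases hε with rfl | rfl <;> simp) ?_ (fun h => ?_) ?_ ?_
      · rw [hx]; exact_mod_cast (show 5 ≤ charDegree (ζ₂ : X → ℂ) by omega)
      · have : ε = 1 := by exact_mod_cast h
        rw [hy]; exact_mod_cast (show 5 ≤ charDegree (ζ₃ : X → ℂ) by omega)
      · rw [hy]; exact_mod_cast (show 3 ≤ charDegree (ζ₃ : X → ℂ) by omega)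
      · rw [hw]; exact_mod_cast (show 3 ≤ charDegree (ζ₄ : X → ℂ) by omega)
    set α := x * y * w / ((x + 1) * (y + (ε : ℚ)) * (w + -1))
    have hP' : (P : ℚ) = 8 * α * (c / v) ^ 2 := by
      push_cast at hα
      rw [← hPc] at hα
      refine mul_right_cancel₀ hc0.ne' (hα.trans ?_)
      rw [div_pow]
      ring
    have hR' : (R : ℚ) ≤ 2 * (c / v) := by rw [two_mul]; linarith [mul_one_div c v]
    have hlt : 3 * (R : ℚ) ^ 2 < 4 * P := by
      have : (R : ℚ) ^ 2 ≤ 4 * (c / v) ^ 2 := by nlinarith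
      have : 0 < (c / v) ^ 2 := by positivity
      nlinarith
    exact ⟨by exact_mod_cast hlt.le, fun _ => by exact_mod_cast hlt⟩
  · -- dihedral of order at least 8
    refine ⟨?_, fun h => absurd h hj.ne'⟩
    obtain ⟨ζ, hζ⟩ : ∃ ζ : ℂ, IsPrimitiveRoot ζ (2 ^ (j + 1)) :=
      ⟨_, Complex.isPrimitiveRoot_exp (2 ^ (j + 1)) (NeZero.ne _)⟩
    obtain ⟨-, χ₁, χ₂, χ₃, χ', δ₁, δ₂, δ₃, hδ₁, -, -, -, hne1, -, -, -, -, -, hχ', hB, hval, hodd⟩ :=
      S4481.result M hM (j + 2) (by omega) S ⟨e⟩ σ F.sigma_mem F.order ζ hζ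
    have hgen : closure ({σ, τ} : Set X) = (S : Subgroup X) := by
      refine le_antisymm ((closure_le _).2 ?_) fun s hs => ?_
      · rintro s (rfl | rfl)
        · exact F.sigma_mem
        · exact F.tau_mem
      · by_cases hsR : s ∈ zpowers σ
        · exact zpowers_le.2 (show σ ∈ closure ({σ, τ} : Set X) from Subgroup.subset_closure (Or.inl rfl)) hsR
        · obtain ⟨i, rfl⟩ := F.exists_reflection hs hsR
          exact mul_mem (Subgroup.subset_closure (Or.inr rfl)) (zpow_mem (show σ ∈ closure ({σ, τ} : Set X) from Subgroup.subset_closure (Or.inl rfl)) i)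
    have hJ : σ ^ (2 ^ (j + 2 - 2)) = z := F.half
    obtain ⟨hdne, hord⟩ := S4482.result M hM (j + 2) (by omega) S σ τ F.sigma_mem F.tau_mem F.order
      (by simpa using F.reflection_order 0) (by rw [F.tau_inv]; exact F.inv) hgen
      ⟨by rw [hJ]; exact hone' τ (by simpa using F.reflection_order 0),
        by
          rw [hJ]
          refine hone' _ ?_
          rw [show σ * τ = τ * σ ^ (-1 : ℤ) by
            rw [zpow_neg_one, ← F.inv, ← mul_assoc, ← mul_assoc, F.tau_sq, one_mul]]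
          exact F.reflection_order _⟩
      χ₁ (by rw [hB]; exact Or.inr (Or.inl rfl)) hne1 δ₁ hδ₁ (fun l h1 h2 => (hval l h1 h2).1)
    rw [hJ] at hord
    set c := (Nat.card (centralizer ({z} : Set X)) : ℚ)
    set s := (1 / (Nat.card (centralizer ({z, τ} : Set X)) : ℚ) +
          1 / (Nat.card (centralizer ({z, σ * τ} : Set X)) : ℚ))
    have hd : δ₁ = -1 → 3 ≤ charDegree (χ₁ : X → ℂ) := by
      intro hδ
      have hj0 : 0 < 2 ^ (j + 2 - 2) - 1 := by
        have : 2 ^ 1 ≤ 2 ^ (j + 2 - 2) := Nat.pow_le_pow_right two_pos (by omega)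
        omega
      have h1 := (hodd 1 (by simp) ⟨0, hj0⟩).2
      rw [hδ] at h1
      have hd0 := BlocksCore.charDegree_pos χ₁
      by_contra hlt
      obtain h | h : charDegree (χ₁ : X → ℂ) = 1 ∨ charDegree (χ₁ : X → ℂ) = 2 := by omega
      · exact hne1 (BlkChar.CofFour.eq_one_of_linear hna χ₁
          (by rw [BlocksCore.irr_one_eq χ₁, h, Nat.cast_one]))
      · refine (hχ' ⟨0, hj0⟩).2.2.2 (BlkChar.CofFour.eq_one_of_linear hna _ ?_)
        rw [BlocksCore.irr_one_eq χ₁, h] at h1
        push_cast at h1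
        linear_combination h1
    have h := dihedral_ineq (P := (P : ℚ)) (R := (R : ℚ)) (x := c * s)
      (d := (charDegree (χ₁ : X → ℂ) : ℚ)) (δ := (δ₁ : ℚ))
      (by rcases hδ₁ with rfl | rfl <;> simp)
      (by exact_mod_cast BlocksCore.charDegree_pos χ₁)
      (fun h => by exact_mod_cast hd (by exact_mod_cast h)) (by exact_mod_cast hdne) hR hR0
      (by
        rw [← hPc] at hord
        refine mul_left_cancel₀ hc0.ne' ?_
        linear_combination hord)
    exact_mod_cast h

end Cfsg.Agent.DihInner81
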