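import Cfsg.Agent.DihInner81.Frame
import Cfsg.Agent.Lib.PGroup.Basic
import Cfsg.Agent.S0076
import Cfsg.Agent.S0215
import Mathlib.GroupTheory.SpecificGroups.Dihedral

/-!
# Two commuting outer involutions with cyclic centralisers differ by an inner involution
-/

set_option autoImplicit false
set_option linter.unusedSectionVars false
set_option linter.style.haveILetI false

open Subgroup

namespace Cfsg.Agent.DihInner81

universe u

variable {G : Type u} [Group G] [Finite G]

theorem dih_two : ∀ z : DihedralGroup 2, z ≠ 1 → ∃ t : DihedralGroup 2, t ≠ 1 ∧ t ≠ z ∧ t * t = 1 ∧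
    t * z * t = z⁻¹ ∧ ∀ x : DihedralGroup 2, (x = 1 ∨ x = z) ∨ (t * x = 1 ∨ t * x = z) := by
  decide

theorem central_not_sr {n : ℕ} (hn : 2 < n) (i : ZMod n) :
    DihedralGroup.sr i * DihedralGroup.r 1 ≠ DihedralGroup.r 1 * DihedralGroup.sr i := by
  haveI : NeZero n := ⟨by omega⟩
  intro h
  rw [DihedralGroup.sr_mul_r, DihedralGroup.r_mul_sr, DihedralGroup.sr.injEq] at h
  have h2 : ((2 : ℕ) : ZMod n) = 0 := by push_cast; linear_combination h
  rw [ZMod.natCast_eq_zero_iff] at h2
  exact absurd (Nat.le_of_dvd two_pos h2) (by omega)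

/-- Coordinates for a dihedral 2-group with a given central involution. -/
theorem exists_frame (D : Subgroup G) (hD : IsPGroup 2 D) {n : ℕ} (e : ↥D ≃* DihedralGroup n)
    (hn : n ≠ 1) {z : G} (hzD : z ∈ D) (hz : orderOf z = 2) (hzc : ∀ d ∈ D, d * z = z * d) :
    ∃ σ τ : G, ∃ j : ℕ, Frame D z σ τ j := by
  haveI : Fact (Nat.Prime 2) := ⟨Nat.prime_two⟩
  obtain ⟨K, hK⟩ := IsPGroup.iff_card.1 hD
  have hc : Nat.card D = 2 * n := by rw [Nat.card_congr e.toEquiv, DihedralGroup.nat_card]
  have hn0 : n ≠ 0 := by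
    rintro rfl
    exact Nat.card_pos.ne' (hc.trans (mul_zero 2))
  obtain ⟨j, rfl⟩ : ∃ j, n = 2 ^ (j + 1) := by
    obtain ⟨i, -, hi⟩ := (Nat.dvd_prime_pow Nat.prime_two).1
      (Dvd.intro_left 2 (hc.symm.trans hK) : n ∣ 2 ^ K)
    rcases i with _ | i
    · exact absurd (by simpa using hi) hn
    · exact ⟨i, hi⟩
  set f : DihedralGroup (2 ^ (j + 1)) →* G := D.subtype.comp e.symm.toMonoidHom with hf
  have hfi : Function.Injective f := (Subtype.val_injective).comp e.symm.injective
  have hfm : ∀ x, f x ∈ D := fun x => (e.symm x).2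
  have hfs : ∀ d ∈ D, ∃ x, f x = d := fun d hd => ⟨e ⟨d, hd⟩, by simp [hf]⟩
  obtain ⟨z', hz'⟩ := hfs z hzD
  have hz1 : z' ≠ 1 := fun h =>
    Involution.ne_one_of_orderOf hz (by rw [← hz', h, map_one])
  rcases Nat.eq_zero_or_pos j with rfl | hj
  · obtain ⟨t, ht1, htz, ht2, ht3, ht4⟩ := dih_two z' hz1
    refine ⟨z, f t, 0, hzD, hfm t, by simpa using hz, by simp, by rw [← map_mul, ht2, map_one],
      ?_, by rw [← hz', ← map_mul, ← map_mul, ht3, map_inv], ?_⟩
    · intro h
      rw [mem_zpowers_iff] at h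
      obtain ⟨l, hl⟩ := h
      have hzz : z ^ (2 : ℤ) = 1 := by
        rw [zpow_two, Involution.mul_self_of_orderOf hz]
      rcases Int.even_or_odd l with ⟨m, rfl⟩ | ⟨m, rfl⟩
      · rw [← two_mul, zpow_mul, hzz, one_zpow] at hl
        exact ht1 (hfi (by rw [← hl, map_one]))
      · rw [zpow_add, zpow_mul, hzz, one_zpow, one_mul, zpow_one] at hl
        exact htz (hfi (by rw [← hl, hz']))
    · intro x hx
      obtain ⟨x', rfl⟩ := hfs x hx
      rcases ht4 x' with (h | h) | h | h
      · exact Or.inl (by rw [h, map_one]; exact one_mem _)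
      · exact Or.inl (by rw [h, hz']; exact mem_zpowers z)
      · exact Or.inr (by rw [← map_mul, h, map_one]; exact one_mem _)
      · exact Or.inr (by rw [← map_mul, h, hz']; exact mem_zpowers z)
  set σ := f (DihedralGroup.r 1) with hσ
  set τ := f (DihedralGroup.sr 0) with hτ
  have ho : orderOf σ = 2 ^ (j + 1) := by
    rw [hσ, orderOf_injective f hfi, DihedralGroup.orderOf_r_one]
  have hpow : ∀ i : ZMod (2 ^ (j + 1)), f (DihedralGroup.r i) ∈ zpowers σ := by
    intro i
    rw [← ZMod.natCast_zmod_val i, ← DihedralGroup.r_one_pow, map_pow]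
    exact pow_mem (mem_zpowers σ) _
  have h4 : 2 < 2 ^ (j + 1) := by
    calc 2 = 2 ^ 1 := rfl
      _ < 2 ^ (j + 1) := Nat.pow_lt_pow_right (by norm_num) (by omega)
  have hzR : z ∈ zpowers σ := by
    rw [← hz']
    rcases z' with i | i
    · exact hpow i
    · exfalso
      refine central_not_sr h4 i (hfi ?_)
      rw [map_mul, map_mul, hz']
      exact (hzc _ (hfm _)).symm
  refine ⟨σ, τ, j, hfm _, hfm _, ho, ?_, ?_, ?_, ?_, ?_⟩
  · have h2 : orderOf (σ ^ (2 ^ j)) = 2 := by
      rw [orderOf_pow_of_dvd (by positivity) (by rw [ho]; exact pow_dvd_pow 2 (by omega)), ho,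
        Nat.pow_div (by omega) two_pos, show j + 1 - j = 1 by omega, pow_one]
    exact congrArg Subtype.val (Involution.involution_unique_of_isCyclic
      (a := (⟨σ ^ (2 ^ j), pow_mem (mem_zpowers σ) _⟩ : zpowers σ)) (b := ⟨z, hzR⟩)
      (by rw [orderOf_mk, h2]) (by rw [orderOf_mk, hz]))
  · rw [hτ, ← map_mul, DihedralGroup.sr_mul_sr, sub_zero, DihedralGroup.r_zero, map_one]
  · intro h
    rw [hσ, ← MonoidHom.map_zpowers] at h
    obtain ⟨y, hy, hyy⟩ := h
    obtain ⟨l, rfl⟩ := mem_zpowers_iff.1 hy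
    rw [hτ] at hyy
    have := hfi hyy
    rw [DihedralGroup.r_one_zpow] at this
    cases this
  · rw [hσ, hτ, ← map_mul, ← map_mul, ← map_inv, DihedralGroup.sr_mul_r, DihedralGroup.sr_mul_sr,
      DihedralGroup.inv_r]
    simp
  · intro x hx
    obtain ⟨x', rfl⟩ := hfs x hx
    rcases x' with i | i
    · exact Or.inl (hpow i)
    · right
      rw [hτ, ← map_mul, DihedralGroup.sr_mul_sr]
      exact hpow _

/-- A non-abelian simple group has no 2-quotient. -/
theorem pResidual_eq_top {K : Type u} [Group K] [Finite K] [IsSimpleGroup K]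
    (hna : ¬ IsMulCommutative K) : Cfsg.pResidual 2 K = ⊤ := by
  haveI : Fact (Nat.Prime 2) := ⟨Nat.prime_two⟩
  rcases (inferInstance : (Cfsg.pResidual 2 K).Normal).eq_bot_or_eq_top with h | h
  · exfalso
    have hp : IsPGroup 2 K := by
      intro x
      obtain ⟨k, hk⟩ := Transfer.isPGroup_quotient_pResidual (p := 2) (G := K) (x : K ⧸ _)
      refine ⟨k, ?_⟩
      rw [← QuotientGroup.mk_pow, QuotientGroup.eq_one_iff, h, mem_bot] at hk
      exact hk
    haveI := hp.center_nontrivial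
    rcases (inferInstance : (center K).Normal).eq_bot_or_eq_top with h' | h'
    · exact Subgroup.nontrivial_iff_ne_bot _ |>.1 inferInstance h'
    · exact hna ⟨⟨fun x y => (mem_center_iff.1 (h' ▸ mem_top y : y ∈ center K) x)⟩⟩
  · exact h

/-- The data extracted from the pair of involutions. -/
theorem exists_setup (L : Subgroup G) [L.Normal] [IsSimpleGroup ↥L]
    (hna : ¬ IsMulCommutative ↥L) (hC : centralizer (L : Set G) = ⊥)
    (hD : ∀ P : Sylow 2 ↥L, ∃ n : ℕ, Nonempty (↥(P : Subgroup ↥L) ≃* DihedralGroup n))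
    {a b : G} (ha : orderOf a = 2) (hb : orderOf b = 2) (hab : a ≠ b) (hc : a * b = b * a)
    (hgen : L ⊔ closure ({a, b} : Set G) = ⊤)
    (hA : OddProd (L ⊓ centralizer {a})) (hB : OddProd (L ⊓ centralizer {b})) :
    ∃ (z σ τ : G) (j : ℕ) (D : Subgroup G) (S : Sylow 2 ↥L), Frame D z σ τ j ∧
      (S : Subgroup ↥L).map L.subtype = D ∧ a ∉ L ∧ a * z = z * a ∧ b = a * z ∧
      a * σ * a = σ⁻¹ := by
  haveI : Fact (Nat.Prime 2) := ⟨Nat.prime_two⟩
  have ha1 := Involution.mul_self_of_orderOf ha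
  have hb1 := Involution.mul_self_of_orderOf hb
  have hpa : ∀ {v : G}, orderOf v = 2 → IsPGroup 2 (zpowers v) := fun {v} hv =>
    IsPGroup.of_card (n := 1) (by rw [Nat.card_zpowers, hv]; rfl)
  have hle : zpowers a ≤ normalizer ((zpowers b : Subgroup G) : Set G) := by
    refine le_trans ?_ (centralizer_le_normalizer _)
    rw [zpowers_le, mem_centralizer_iff]
    intro y hy
    obtain ⟨l, rfl⟩ := mem_zpowers_iff.1 hy
    exact ((show Commute b a from hc.symm).zpow_left l).eq
  obtain ⟨T, hT⟩ := ((hpa ha).to_sup_of_normal_right' (hpa hb) hle).exists_le_sylow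
  have haT : a ∈ (T : Subgroup G) := hT (mem_sup_left (mem_zpowers a))
  have hbT : b ∈ (T : Subgroup G) := hT (mem_sup_right (mem_zpowers b))
  -- the trace of `T` on `L`
  set D := (T : Subgroup G) ⊓ L with hDdef
  obtain ⟨S, hS⟩ := (T.isPGroup'.to_le (inf_le_left : D ≤ T)).of_equiv
    (subgroupOfEquivOfLe (inf_le_right : D ≤ L)).symm |>.exists_le_sylow
  have hSD : (S : Subgroup ↥L).map L.subtype = D := by
    have hle' : D ≤ (S : Subgroup ↥L).map L.subtype := fun x hx =>
      ⟨⟨x, hx.2⟩, hS (mem_subgroupOf.2 hx), rfl⟩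
    obtain ⟨T', hT'⟩ := (S.isPGroup'.map L.subtype).exists_le_sylow
    obtain ⟨g, hg⟩ := MulAction.exists_smul_eq G T' T
    have hinto : ((S : Subgroup ↥L).map L.subtype).map (MulAut.conj g).toMonoidHom ≤ D := by
      rintro _ ⟨x, hx, rfl⟩
      refine ⟨hg ▸ Involution.conj_mem_sylow_smul g (hT' hx), ?_⟩
      obtain ⟨y, -, rfl⟩ := hx
      exact Normal.conj_mem inferInstance _ y.2 g
    refine (SetLike.coe_injective (Set.Finite.eq_of_subset_of_card_le (Set.toFinite _) hle'
      ?_)).symm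
    have := card_le_of_le hinto
    rwa [card_map_of_injective (MulAut.conj g).injective] at this
  have hDp : IsPGroup 2 D := hSD ▸ S.isPGroup'.map _
  have hO := pResidual_eq_top hna
  obtain ⟨n, ⟨eS⟩⟩ := hD S
  have hne : 2 ∣ Nat.card ↥L := by
    refine dvd_trans ?_ (card_subgroup_dvd_card (S : Subgroup ↥L))
    rw [Nat.card_congr eS.toEquiv, DihedralGroup.nat_card]
    exact Dvd.intro n rfl
  have hDne : D ≠ ⊥ := by
    intro h
    have h1 : Nat.card D = 1 := by rw [h, card_bot]
    rw [← hSD, card_map_of_injective L.subtype_injective] at h1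
    exact S.ne_bot_of_dvd_card hne (card_eq_one.1 h1)
  have hnormD : ∀ t ∈ (T : Subgroup G), ∀ x ∈ D, t * x * t⁻¹ ∈ D := fun t ht x hx =>
    mem_inf.2 ⟨mul_mem (mul_mem ht hx.1) (inv_mem ht), Normal.conj_mem inferInstance _ hx.2 t⟩
  -- a central involution of `T` in `L`
  obtain ⟨z, hzD, hz, hzT⟩ : ∃ z ∈ D, orderOf z = 2 ∧ ∀ s ∈ (T : Subgroup G), s * z = z * s := by
    haveI hn' : (L.subgroupOf (T : Subgroup G)).Normal := inferInstance
    have hne' : L.subgroupOf (T : Subgroup G) ≠ ⊥ := by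
      rw [Ne, subgroupOf_eq_bot, disjoint_iff, inf_comm]
      exact hDne
    obtain ⟨x, hx, hx1⟩ := (bot_or_exists_ne_one _).resolve_left
      (Cfsg.Agent.PGroup.inf_center_ne_bot T.isPGroup' hne')
    have h2 : 2 ∣ orderOf x := by
      obtain ⟨k, hk⟩ := T.isPGroup' x
      obtain ⟨i, -, hi⟩ := (Nat.dvd_prime_pow Nat.prime_two).1 (orderOf_dvd_of_pow_eq_one hk)
      rw [hi]
      refine dvd_pow_self 2 ?_
      rintro rfl
      exact hx1 (orderOf_eq_one_iff.1 (by simpa using hi))
    set y := x ^ (orderOf x / 2) with hy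
    have hyo : orderOf y = 2 := orderOf_pow_orderOf_div (orderOf_pos x).ne' h2
    have hym : y ∈ L.subgroupOf (T : Subgroup G) ⊓ center _ := pow_mem hx _
    exact ⟨y, ⟨y.2, hym.1⟩, by rw [orderOf_coe]; exact hyo,
      fun s hs => congrArg Subtype.val (mem_center_iff.1 hym.2 ⟨s, hs⟩)⟩
  have hn1 : n ≠ 1 := by
    rintro rfl
    have h2 : Nat.card (S : Subgroup ↥L) = 2 := by
      rw [Nat.card_congr eS.toEquiv, DihedralGroup.nat_card]
    haveI := isCyclic_of_prime_card h2
    obtain ⟨H, hH⟩ := Involution.exists_index_two_of_cyclic_sylow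
      (even_iff_two_dvd.2 hne) S inferInstance
    haveI := normal_of_index_eq_two hH
    have := Transfer.pResidual_le_of_index (p := 2) (N := H) (n := 1) (by rw [hH, pow_one])
    rw [hO, top_le_iff] at this
    simp [this] at hH
  have eD : ↥D ≃* DihedralGroup n :=
    ((MulEquiv.subgroupCongr hSD.symm).trans
      ((S : Subgroup ↥L).equivMapOfInjective _ L.subtype_injective).symm).trans eS
  obtain ⟨σ, τ, j, F⟩ := exists_frame D hDp eD hn1 hzD hz (fun d hd => hzT d hd.1)
  have hτz : τ ≠ z := fun h => F.tau_not (h ▸ F.z_mem)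
  have hτo : orderOf τ = 2 := by simpa using F.reflection_order 0
  -- all involutions of `L` are conjugate
  have hone : ∀ x ∈ L, orderOf x = 2 → IsConj x z := by
    intro x hx hx2
    have hσL : σ ∈ L := F.sigma_mem.2
    have hRS : zpowers (⟨σ, hσL⟩ : L) ≤ (S : Subgroup ↥L) := by
      rw [zpowers_le]
      have : σ ∈ (S : Subgroup ↥L).map L.subtype := hSD.symm ▸ F.sigma_mem
      obtain ⟨y, hy, hyσ⟩ := this
      rwa [show (⟨σ, hσL⟩ : L) = y from Subtype.ext hyσ.symm]
    have hRi : (zpowers (⟨σ, hσL⟩ : L)).relIndex (S : Subgroup ↥L) = 2 := by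
      rw [← relIndex_map_map_of_injective _ _ L.subtype_injective, hSD, MonoidHom.map_zpowers]
      rw [relIndex, index_eq_two_iff]
      refine ⟨⟨τ, F.tau_mem⟩, fun y => ?_⟩
      rw [mem_subgroupOf, mem_subgroupOf, coe_mul, xor_iff_not_iff', coe_subtype]
      constructor
      · intro h1
        rcases em ((y : G) ∈ zpowers σ) with hy | hy
        · exact hy
        · exact absurd (F.mul_mem_zpowers y.2 F.tau_mem hy F.tau_not) h1
      · intro (h2 : (y : G) ∈ zpowers σ) (h1 : (y : G) * τ ∈ zpowers σ)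
        exact F.tau_not (by simpa using mul_mem (inv_mem h2) h1)
    have := isConj_of_residual hO S _ hRS hRi (x := (⟨x, hx⟩ : L)) (y := ⟨z, hzD.2⟩)
      (by rw [orderOf_mk, hx2]) (by rw [orderOf_mk, hz])
    exact MonoidHom.map_isConj L.subtype this
  -- fixed involutions of `D`
  have hfixA : ∀ {v : G}, v ∈ (T : Subgroup G) → v * v = 1 → OddProd (L ⊓ centralizer {v}) →
      ∀ x ∈ D, orderOf x = 2 → v * x * v = x → x = z := by
    intro v hv hv1 hO' x hx hx2 hxv
    refine hO'.eq_of_commute ⟨hx.2, mem_centralizer_singleton_iff.2 ?_⟩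
      ⟨hzD.2, mem_centralizer_singleton_iff.2 (hzT v hv).symm⟩ hx2 hz (hzT x hx.1)
    calc x * v = v * x * v * v := by rw [hxv]
      _ = v * x := by rw [mul_assoc, hv1, mul_one]
  have hnorm1 : ∀ {v : G}, v ∈ (T : Subgroup G) → v * v = 1 → ∀ x ∈ D, v * x * v ∈ D := by
    intro v hv hv1 x hx
    have := hnormD v hv x hx
    rwa [inv_eq_of_mul_eq_one_right hv1] at this
  have hfz : ∀ {v : G}, v ∈ (T : Subgroup G) → v * v = 1 → v * z * v = z := fun {v} hv hv1 => by
    rw [hzT v hv, mul_assoc, hv1, mul_one]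
  have haL : a ∉ L := fun h => hτz (by
    have h1 : a = z := hA.eq_of_commute ⟨h, mem_centralizer_singleton_iff.2 rfl⟩
      ⟨hzD.2, mem_centralizer_singleton_iff.2 (hzT a haT).symm⟩ ha hz (hzT a haT)
    exact hA.eq_of_commute ⟨F.tau_mem.2, mem_centralizer_singleton_iff.2
      (by rw [h1]; exact F.tau_commute_z)⟩
      ⟨hzD.2, mem_centralizer_singleton_iff.2 (hzT a haT).symm⟩ hτo hz F.tau_commute_z)
  -- the elements of `T`
  have hW : ∀ w ∈ closure ({a, b} : Set G), w = 1 ∨ w = a ∨ w = b ∨ w = a * b := by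
    have hx1 : a * b * a = b := by rw [hc, mul_assoc, ha1, mul_one]
    have hx2 : a * (a * b) = b := by rw [← mul_assoc, ha1, one_mul]
    have hx3 : b * (a * b) = a := by rw [hc, ← mul_assoc, hb1, one_mul]
    have hx4 : a * b * b = a := by rw [mul_assoc, hb1, mul_one]
    have hx5 : a * b * (a * b) = 1 := by rw [← mul_assoc, hx1, hb1]
    intro w hw
    induction hw using closure_induction with
    | mem x hx =>
      rcases hx with rfl | hx
      · exact Or.inr (Or.inl rfl)
      · exact Or.inr (Or.inr (Or.inl hx))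
    | one => exact Or.inl rfl
    | mul x y _ _ hx hy =>
      rcases hx with rfl | rfl | rfl | rfl <;> rcases hy with rfl | rfl | rfl | rfl <;>
        simp [ha1, hb1, hx1, hx2, hx3, hx4, hx5, hc.symm]
    | inv x _ hx =>
      rcases hx with rfl | rfl | rfl | rfl <;>
        simp [inv_eq_of_mul_eq_one_right ha1, inv_eq_of_mul_eq_one_right hb1, hc.symm]
  have hWT : ∀ w ∈ closure ({a, b} : Set G), w ∈ (T : Subgroup G) ∧ w * w = 1 := by
    intro w hw
    refine ⟨(closure_le (T : Subgroup G)).2 (Set.pair_subset haT hbT) hw, ?_⟩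
    rcases hW w hw with rfl | rfl | rfl | rfl
    · exact one_mul 1
    · exact ha1
    · exact hb1
    · rw [← mul_assoc, hc, mul_assoc b a a, ha1, mul_one, hb1]
  have hTel : ∀ y ∈ (T : Subgroup G), ∃ d ∈ D, ∃ w ∈ closure ({a, b} : Set G), y = d * w := by
    intro y hy
    obtain ⟨l, hl, w, hw, rfl⟩ := mem_sup_of_normal_left.1 (hgen ▸ mem_top y)
    refine ⟨l, mem_inf.2 ⟨?_, hl⟩, w, hw, rfl⟩
    have := (T : Subgroup G).mul_mem hy ((T : Subgroup G).inv_mem (hWT w hw).1)
    rwa [mul_inv_cancel_right] at this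
  have hsqT : ∀ y ∈ (T : Subgroup G), orderOf (y * y) = 2 → y * y = z := by
    intro y hy hy2
    obtain ⟨d, hd, w, hw, rfl⟩ := hTel y hy
    obtain ⟨hwT, hw1⟩ := hWT w hw
    refine F.eq_z ?_ hy2
    have hR := F.conj_mem (g := w) (fun x hx => hnormD w hwT x hx)
      (by rw [hzT w hwT, mul_inv_cancel_right])
    rw [inv_eq_of_mul_eq_one_right hw1] at hR
    rw [show d * w * (d * w) = d * (w * d * w) by group]
    by_cases hdR : d ∈ zpowers σ
    · exact mul_mem hdR (hR d hdR)
    · refine F.mul_mem_zpowers hd (hnorm1 hwT hw1 d hd) hdR fun h => hdR ?_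
      have := hR _ h
      rwa [show w * (w * d * w) * w = w * w * d * (w * w) by group, hw1, one_mul, mul_one] at this
  -- no automorphism of the split kind
  have hnot : ∀ v : G, v ∈ (T : Subgroup G) → v * v = 1 → v * σ * v = σ → 0 < j →
      v * τ * v = τ * z → False := by
    intro v hv hv1 hvσ hj hvτ
    set w := σ ^ (2 ^ (j - 1)) with hw
    have hw2 : w * w = z := by
      rw [hw, ← pow_add, ← two_mul, ← pow_succ', show j - 1 + 1 = j by omega, F.half]
    have hvw : v * w = w * v := by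
      have h1 : Commute v σ := by
        calc v * σ = v * σ * (v * v) := by rw [hv1, mul_one]
          _ = σ * v := by rw [← mul_assoc, hvσ]
      exact h1.pow_right _
    have hτvτ : τ * v * τ = z * v := by
      calc τ * v * τ = τ * (v * τ * v) * v := by
            rw [show τ * (v * τ * v) * v = τ * v * τ * (v * v) by group, hv1, mul_one]
        _ = z * v := by rw [hvτ, ← mul_assoc, F.tau_sq, one_mul]
    have hτwτ : τ * w * τ = w⁻¹ := by
      have := F.tau_conj ((2 ^ (j - 1) : ℕ) : ℤ)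
      rwa [zpow_natCast, zpow_neg, zpow_natCast] at this
    refine false_of_sq T hzT hz hτz (hone τ F.tau_mem.2 hτo) (x := v * w)
      (mul_mem hv (pow_mem F.sigma_mem.1 _)) ?_ ?_ hsqT
    · have h1 : τ * (v * w) * τ = v * w := by
        calc τ * (v * w) * τ = τ * v * (τ * τ) * w * τ := by rw [F.tau_sq]; group
          _ = τ * v * τ * (τ * w * τ) := by group
          _ = z * v * w⁻¹ := by rw [hτvτ, hτwτ]
          _ = v * (z * w⁻¹) := by rw [← hzT v hv]; group
          _ = v * w := by rw [← hw2, mul_inv_cancel_right]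
      calc v * w * τ = τ * (v * w) * (τ * τ) := by
            conv_lhs => rw [← h1]
            group
        _ = τ * (v * w) := by rw [F.tau_sq, mul_one]
    · calc v * w * (v * w) = v * (w * v) * w := by group
        _ = v * v * (w * w) := by rw [← hvw]; group
        _ = z := by rw [hv1, one_mul, hw2]
  have htype : ∀ v : G, v ∈ (T : Subgroup G) → v * v = 1 → OddProd (L ⊓ centralizer {v}) →
      ∃ k : ℤ, Odd k ∧ v * τ * v = τ * σ ^ k ∧ v * σ * v = σ⁻¹ := by
    intro v hv hv1 hO'
    obtain ⟨k, hk, h | ⟨hj, hσv, hkz⟩⟩ :=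
      F.type_of hv1 (hnorm1 hv hv1) (hfz hv hv1) (hfixA hv hv1 hO')
    · exact ⟨k, h.2, hk, h.1⟩
    · exact (hnot v hv hv1 hσv hj (by rw [hk, hkz])).elim
  obtain ⟨ka, hka, haτ, haσ⟩ := htype a haT ha1 hA
  obtain ⟨kb, hkb, hbτ, hbσ⟩ := htype b hbT hb1 hB
  set c := a * b with hcdef
  have hcT : c ∈ (T : Subgroup G) := mul_mem haT hbT
  have hc1 : c * c = 1 := (hWT c (mul_mem (subset_closure (Or.inl rfl))
    (subset_closure (Or.inr rfl)))).2
  clear_value c
  have hca : c * a = a * c := by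
    rw [hc, mul_assoc, ha1, mul_one, ← hc, hcdef, ← mul_assoc, ha1, one_mul]
  have hcne : c ≠ 1 := fun h => hab (by
    calc a = a * (b * b) := by rw [hb1, mul_one]
      _ = b := by rw [← mul_assoc, ← hcdef, h, one_mul])
  have hco : orderOf c = 2 := Involution.orderOf_eq_two_iff'.2 ⟨hc1, hcne⟩
  by_cases hcL : c ∈ L
  · have hcz : c = z := hA.eq_of_commute
      ⟨hcL, mem_centralizer_singleton_iff.2 hca⟩
      ⟨hzD.2, mem_centralizer_singleton_iff.2 (hzT a haT).symm⟩ hco hz (hzT c hcT)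
    refine ⟨z, σ, τ, j, D, S, F, hSD, haL, hzT a haT, ?_, haσ⟩
    rw [← hcz, hcdef, ← mul_assoc, ha1, one_mul]
  exfalso
  have hpowb : ∀ l : ℤ, b * σ ^ l * b = σ ^ (-l) := fun l => by
    have h := conj_zpow (a := b) (b := σ) (i := l)
    rw [inv_eq_of_mul_eq_one_right hb1, hbσ, inv_zpow'] at h
    exact h.symm
  have hbi := inv_eq_of_mul_eq_one_right hb1
  have hcconj : ∀ x, c * x * c = b * (a * x * a) * b := fun x => by
    calc c * x * c = b * a * x * (a * b) := by rw [← hc, ← hcdef]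
      _ = _ := by group
  have hcτ : c * τ * c = τ * σ ^ (kb - ka) := by
    rw [hcconj, haτ]
    calc b * (τ * σ ^ ka) * b = b * τ * b * (b * σ ^ ka * b) := by
          rw [show b * τ * b * (b * σ ^ ka * b) = b * τ * (b * b) * σ ^ ka * b by group, hb1]
          group
      _ = τ * σ ^ (kb - ka) := by
          rw [hbτ, hpowb, mul_assoc, ← zpow_add, sub_eq_add_neg]
  have hcσ : c * σ * c = σ := by
    rw [hcconj, haσ, ← zpow_neg_one, hpowb, neg_neg, zpow_one]
  have hcs : Commute c σ := by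
    calc c * σ = c * σ * (c * c) := by rw [hc1, mul_one]
      _ = σ * c := by rw [← mul_assoc, hcσ]
  set s := σ ^ (kb - ka) with hs
  have hs2 : s * s = 1 := by
    have h1 : τ = τ * (s * s) := by
      calc τ = c * (c * τ * c) * c := by
            rw [show c * (c * τ * c) * c = c * c * τ * (c * c) by group, hc1, one_mul, mul_one]
        _ = c * τ * (s * c) := by rw [hcτ]; group
        _ = c * τ * c * s := by rw [show s * c = c * s from (hcs.zpow_right (kb - ka)).eq.symm]; group
        _ = τ * (s * s) := by rw [hcτ, mul_assoc]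
    exact mul_eq_left.1 h1.symm
  obtain ⟨q, hq⟩ := hkb.sub_odd hka
  by_cases hs1 : s = 1
  swap
  · have hsz : s = z := F.eq_z (zpow_mem (mem_zpowers σ) _)
      (Involution.orderOf_eq_two_iff'.2 ⟨hs2, hs1⟩)
    refine hnot c hcT hc1 hcσ ?_ (by rw [hcτ, hsz])
    rcases Nat.eq_zero_or_pos j with rfl | hj
    · exfalso
      apply hs1
      have hσ2 : σ ^ (2 : ℤ) = 1 := by
        have := pow_orderOf_eq_one σ
        rw [F.order] at this
        exact_mod_cast this
      rw [hs, hq, ← two_mul, zpow_mul, hσ2, one_zpow]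
    · exact hj
  -- `c` is central in `T`
  have hcτ' : Commute c τ := by
    calc c * τ = c * τ * (c * c) := by rw [hc1, mul_one]
      _ = τ * c := by rw [← mul_assoc, hcτ, hs1, mul_one]
  have hcD : ∀ d ∈ D, c * d = d * c := by
    intro d hd
    by_cases hdR : d ∈ zpowers σ
    · obtain ⟨l, rfl⟩ := mem_zpowers_iff.1 hdR
      exact (hcs.zpow_right l).eq
    · obtain ⟨l, rfl⟩ := F.exists_reflection hd hdR
      exact (hcτ'.mul_right (hcs.zpow_right l)).eq
  have hcW : ∀ w ∈ closure ({a, b} : Set G), c * w = w * c := by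
    intro w hw
    rcases hW w hw with rfl | rfl | rfl | rfl
    · rw [one_mul, mul_one]
    · exact hca
    · calc c * w = a := by rw [hcdef, mul_assoc, hb1, mul_one]
        _ = w * c := by rw [hc, ← mul_assoc, hb1, one_mul]
    · rfl
  have hcTc : ∀ t ∈ (T : Subgroup G), t * c = c * t := by
    intro t ht
    obtain ⟨d, hd, w, hw, rfl⟩ := hTel t ht
    calc d * w * c = d * (c * w) := by rw [mul_assoc, hcW w hw]
      _ = c * (d * w) := by rw [← mul_assoc, ← hcD d hd, mul_assoc]
  have hczD : ∀ x ∈ L, orderOf x = 2 → (∀ t ∈ (T : Subgroup G), t * x = x * t) → x ∈ (T : Subgroup G) →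
      x = z := by
    intro x hxL hx hxc hxT
    exact hfixA haT ha1 hA x ⟨hxT, hxL⟩ hx (by rw [hxc a haT, mul_assoc, ha1, mul_one])
  have hczc : ∀ t ∈ (T : Subgroup G), t * (c * z) = c * z * t := fun t ht => by
    rw [← mul_assoc, hcTc t ht, mul_assoc, hzT t ht, ← mul_assoc]
  have hrefl : ∀ l : ℤ, IsConj (c * (τ * σ ^ l)) (c * τ) := by
    have heven : ∀ m : ℤ, IsConj (c * (τ * σ ^ (2 * m))) (c * τ) := by
      intro m
      refine isConj_iff.2 ⟨σ ^ m, ?_⟩
      have h1 : σ ^ m * τ = τ * σ ^ (-m) := by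
        rw [← F.tau_conj m, ← mul_assoc, ← mul_assoc, F.tau_sq, one_mul]
      calc σ ^ m * (c * (τ * σ ^ (2 * m))) * (σ ^ m)⁻¹ =
            σ ^ m * c * τ * σ ^ (2 * m) * (σ ^ m)⁻¹ := by group
        _ = c * (σ ^ m * τ) * σ ^ (2 * m) * (σ ^ m)⁻¹ := by
            rw [← (hcs.zpow_right m).eq]; group
        _ = c * τ := by rw [h1]; group
    intro l
    rcases Int.even_or_odd l with ⟨m, rfl⟩ | ⟨m, rfl⟩
    · rw [← two_mul]; exact heven m
    · obtain ⟨q', hq'⟩ := hka
      refine IsConj.trans ?_ (heven (q' - m))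
      refine isConj_iff.2 ⟨a, ?_⟩
      have hai := inv_eq_of_mul_eq_one_right ha1
      have hpa' : a * σ ^ (2 * m + 1) * a = σ ^ (-(2 * m + 1)) := by
        have h := conj_zpow (a := a) (b := σ) (i := 2 * m + 1)
        rw [hai, haσ, inv_zpow'] at h
        exact h.symm
      calc a * (c * (τ * σ ^ (2 * m + 1))) * a⁻¹ = a * c * τ * σ ^ (2 * m + 1) * a := by
            rw [hai]; group
        _ = c * (a * τ * 1 * σ ^ (2 * m + 1) * a) := by rw [← hca]; group
        _ = c * (a * τ * a * (a * σ ^ (2 * m + 1) * a)) := by rw [← ha1]; group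
        _ = c * (τ * σ ^ (2 * (q' - m))) := by
            rw [haτ, hpa', mul_assoc τ, ← zpow_add]
            congr 3
            omega
  have hzswap : ¬ IsConj c (c * z) := by
    intro hcj
    obtain ⟨g, hg⟩ := isConj_iff.1 hcj
    obtain ⟨n, hn, hn'⟩ := S0076.result T {c} {c * z} (Set.singleton_subset_iff.2 hcT)
      (Set.singleton_subset_iff.2 (mul_mem hcT hzD.1))
      (fun x hx => by rw [Set.image_singleton, hcTc x hx, mul_inv_cancel_right])
      (fun x hx => by rw [Set.image_singleton, hczc x hx, mul_inv_cancel_right]) g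
      (by rw [Set.image_singleton, hg])
    rw [Set.image_singleton, Set.singleton_eq_singleton_iff] at hn'
    have hnz : n * z * n⁻¹ = z := by
      refine hczD _ (Normal.conj_mem inferInstance _ hzD.2 n) ?_ (fun t ht => ?_)
        ((mem_normalizer_iff.1 hn z).1 hzD.1)
      · rw [← MulAut.conj_apply, MulEquiv.orderOf_eq, hz]
      · have ht' : n⁻¹ * t * n ∈ (T : Subgroup G) := by
          have := (mem_normalizer_iff.1 (inv_mem hn) t).1 ht
          rwa [inv_inv] at this
        calc t * (n * z * n⁻¹) = n * (n⁻¹ * t * n * z) * n⁻¹ := by group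
          _ = n * (z * (n⁻¹ * t * n)) * n⁻¹ := by rw [hzT _ ht']
          _ = n * z * n⁻¹ * t := by group
    have hn2 : ∀ i : ℕ, n ^ (2 * i) * c * (n ^ (2 * i))⁻¹ = c := by
      intro i
      induction i with
      | zero => simp
      | succ i ih =>
        rw [show 2 * (i + 1) = 2 + 2 * i by ring, pow_add, sq]
        calc n * n * n ^ (2 * i) * c * (n * n * n ^ (2 * i))⁻¹ =
              n * (n * (n ^ (2 * i) * c * (n ^ (2 * i))⁻¹) * n⁻¹) * n⁻¹ := by group
          _ = n * (c * z) * n⁻¹ := by rw [ih, hn']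
          _ = n * c * n⁻¹ * (n * z * n⁻¹) := by group
          _ = c := by rw [hn', hnz, mul_assoc, Involution.mul_self_of_orderOf hz, mul_one]
    obtain ⟨k, m, ⟨i, rfl⟩, hord⟩ := Nat.exists_eq_two_pow_mul_odd (orderOf_pos n).ne'
    have hnm : n ^ (2 * i + 1) ∈ (T : Subgroup G) := by
      have hle2 : zpowers (n ^ (2 * i + 1)) ≤ normalizer ((T : Subgroup G) : Set G) :=
        zpowers_le.mpr (pow_mem hn _)
      have hp : IsPGroup 2 (zpowers (n ^ (2 * i + 1))) := IsPGroup.of_card (n := k) (by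
        rw [Nat.card_zpowers, orderOf_pow' _ (by omega), hord,
          Nat.gcd_eq_right (Dvd.intro_left _ rfl), Nat.mul_div_cancel _ (by omega)])
      exact T.is_maximal' (hp.to_sup_of_normal_right' T.isPGroup' hle2) le_sup_right ▸
        mem_sup_left (mem_zpowers _)
    have h1 := hcTc _ hnm
    have h2 : c * z = c := by
      calc c * z = n * c * n⁻¹ := hn'.symm
        _ = n * (n ^ (2 * i) * c * (n ^ (2 * i))⁻¹) * n⁻¹ := by rw [hn2]
        _ = n ^ (2 * i + 1) * c * (n ^ (2 * i + 1))⁻¹ := by rw [pow_succ']; group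
        _ = c := by rw [h1, mul_inv_cancel_right]
    exact Involution.ne_one_of_orderOf hz (mul_eq_left.1 h2)
  -- one of `c`, `c * z` is isolated
  have hiso : ∀ u : G, u ∈ (T : Subgroup G) → orderOf u = 2 →
      (∀ w ∈ closure ({a, b} : Set G), u * w = w * u) → c * u ∈ L →
      ∀ g : G, g * u * g⁻¹ ∈ (T : Subgroup G) → g * u * g⁻¹ = c ∨ g * u * g⁻¹ = c * z ∨
        IsConj u (c * τ) := by
    intro u huT hu huW hcu g hg
    obtain ⟨l, hl, w, hw, rfl⟩ := mem_sup_of_normal_left.1 (hgen ▸ mem_top g)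
    set y := l * w * u * (l * w)⁻¹ with hy
    have hyl : y = l * u * l⁻¹ := by
      rw [hy, mul_inv_rev, mul_assoc l w u, ← huW w hw]; group
    set d := c * y with hd
    have hdD : d ∈ D := by
      refine mem_inf.2 ⟨mul_mem hcT hg, ?_⟩
      rw [hd, hyl, show c * (l * u * l⁻¹) = c * l * c⁻¹ * ((c * u) * l⁻¹) by group]
      exact mul_mem (Normal.conj_mem inferInstance _ hl c) (mul_mem hcu (inv_mem hl))
    have hyd : y = c * d := by rw [hd, ← mul_assoc, hc1, one_mul]
    have hy2 : y * y = 1 := by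
      rw [hy]
      calc l * w * u * (l * w)⁻¹ * (l * w * u * (l * w)⁻¹) = l * w * (u * u) * (l * w)⁻¹ := by group
        _ = 1 := by rw [Involution.mul_self_of_orderOf hu]; group
    have hd2 : d * d = 1 := by
      calc d * d = (c * c) * (d * d) := by rw [hc1, one_mul]
        _ = c * (c * d) * d := by group
        _ = c * (d * c) * d := by rw [hcD d hdD]
        _ = y * y := by rw [hyd]; group
        _ = 1 := hy2
    by_cases hdR : d ∈ zpowers σ
    · by_cases hd1 : d = 1
      · exact Or.inl (by rw [hyd, hd1, mul_one])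
      · exact Or.inr (Or.inl (by rw [hyd, F.eq_z hdR (Involution.orderOf_eq_two_iff'.2 ⟨hd2, hd1⟩)]))
    · obtain ⟨i, hi⟩ := F.exists_reflection hdD hdR
      refine Or.inr (Or.inr (IsConj.trans (isConj_iff.2 ⟨l * w, rfl⟩) ?_))
      rw [show l * w * u * (l * w)⁻¹ = y from rfl, hyd, hi]
      exact hrefl i
  have hczo : orderOf (c * z) = 2 := by
    refine Involution.orderOf_eq_two_iff'.2 ⟨?_, fun h => hcL ?_⟩
    · calc c * z * (c * z) = c * (z * c) * z := by group
        _ = c * c * (z * z) := by rw [← hzT c hcT]; group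
        _ = 1 := by rw [hc1, Involution.mul_self_of_orderOf hz, one_mul]
    · rw [mul_eq_one_iff_eq_inv] at h
      rw [h]; exact inv_mem hzD.2
  have hczW : ∀ w ∈ closure ({a, b} : Set G), c * z * w = w * (c * z) := fun w hw => by
    rw [hczc w (hWT w hw).1]
  obtain ⟨u, huT, huo, huL, hiso'⟩ : ∃ u, u ∈ (T : Subgroup G) ∧ orderOf u = 2 ∧ u ∉ L ∧
      ∀ g : G, g * u * g⁻¹ ∈ (T : Subgroup G) → g * u * g⁻¹ = u := by
    by_cases h1 : ∀ g : G, g * c * g⁻¹ ∈ (T : Subgroup G) → g * c * g⁻¹ = c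
    · exact ⟨c, hcT, hco, hcL, h1⟩
    push Not at h1
    obtain ⟨g, hg, hg'⟩ := h1
    have hcτj : IsConj c (c * τ) := by
      rcases hiso c hcT hco hcW (by rw [hc1]; exact one_mem L) g hg with h | h | h
      · exact absurd h hg'
      · exact absurd (isConj_iff.2 ⟨g, h⟩) hzswap
      · exact h
    refine ⟨c * z, mul_mem hcT hzD.1, hczo, fun h => hcL ?_, fun g' hg'' => ?_⟩
    · simpa using mul_mem h (inv_mem hzD.2)
    · rcases hiso (c * z) (mul_mem hcT hzD.1) hczo hczW
        (by rw [← mul_assoc, hc1, one_mul]; exact hzD.2) g' hg'' with h | h | h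
      · exact absurd (isConj_iff.2 ⟨g', h⟩ : IsConj (c * z) c).symm hzswap
      · exact h
      · exact absurd (hcτj.trans h.symm) hzswap
  obtain ⟨N, hN, hNodd, hcomm⟩ := S0215.result T u huo huT hiso'
  haveI := hN
  have hNL : N ⊓ L = ⊥ := by
    have h1 : (N.subgroupOf L).Normal := inferInstance
    rcases h1.eq_bot_or_eq_top with h | h
    · rwa [subgroupOf_eq_bot, disjoint_iff] at h
    · exfalso
      rw [subgroupOf_eq_top] at h
      refine Nat.not_even_iff_odd.2 hNodd (even_iff_two_dvd.2 ?_)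
      exact hne.trans (card_dvd_of_le h)
  refine huL ?_
  have : u ∈ centralizer (L : Set G) := by
    rw [mem_centralizer_iff]
    intro l hl
    have h1 : u * l * u⁻¹ * l⁻¹ ∈ N ⊓ L :=
      mem_inf.2 ⟨hcomm l, mul_mem (Normal.conj_mem inferInstance _ hl u) (inv_mem hl)⟩
    rw [hNL, mem_bot, mul_inv_eq_one, mul_inv_eq_iff_eq_mul] at h1
    exact h1.symm
  rw [hC, mem_bot] at this
  rw [this]
  exact one_mem L

end Cfsg.Agent.DihInner81
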