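import Cfsg.Agent.DihInner81.Fix
import Cfsg.Agent.DihInner81.Outer

/-!
# Subgroups generated by involutions of a group with dihedral Sylow 2-subgroups
-/

set_option autoImplicit false
set_option linter.unusedSectionVars false
set_option linter.style.haveILetI false

open Subgroup Cfsg

namespace Cfsg.Agent.DihInner81

universe u

variable {X : Type u} [Group X] [Finite X]

/-- A Sylow 2-subgroup of a subgroup goes into `S` after conjugation. -/
theorem exists_embed (S : Sylow 2 X) (H : Subgroup X) (T : Sylow 2 ↥H) :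
    ∃ f : ↥H →* X, Function.Injective f ∧ (∃ g : X, ∀ h : H, f h = g * h * g⁻¹) ∧
      ∀ t ∈ (T : Subgroup ↥H), f t ∈ (S : Subgroup X) := by
  haveI : Fact (Nat.Prime 2) := ⟨Nat.prime_two⟩
  obtain ⟨Q, hQ⟩ := (T.isPGroup'.map H.subtype).exists_le_sylow
  obtain ⟨g, hg⟩ := MulAction.exists_smul_eq X Q S
  refine ⟨(MulAut.conj g).toMonoidHom.comp H.subtype,
    (MulAut.conj g).injective.comp H.subtype_injective, ⟨g, fun _ => rfl⟩, fun t ht => ?_⟩
  exact hg ▸ Involution.conj_mem_sylow_smul g (hQ ⟨t, ht, rfl⟩)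

/-- A subgroup without 2-quotient has one class of involutions. -/
theorem isConj_in_perfect (S : Sylow 2 X) {z σ τ : X} {j : ℕ}
    (F : Frame (S : Subgroup X) z σ τ j) (H : Subgroup X) (hO : pResidual 2 ↥H = ⊤)
    {x y : ↥H} (hx : orderOf x = 2) (hy : orderOf y = 2) : IsConj x y := by
  haveI : Fact (Nat.Prime 2) := ⟨Nat.prime_two⟩
  obtain ⟨T⟩ := (inferInstance : Nonempty (Sylow 2 ↥H))
  obtain ⟨f, hfi, -, hfT⟩ := exists_embed S H T
  have hev : Even (Nat.card ↥H) := even_iff_two_dvd.2 (hx ▸ orderOf_dvd_natCard x)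
  set R : Subgroup ↥H := (T : Subgroup ↥H) ⊓ (zpowers σ).comap f with hR
  haveI hRc : IsCyclic R :=
    isCyclic_of_injective ((f.comp R.subtype).codRestrict (zpowers σ) fun r => r.2.2)
      (fun a b h => Subtype.ext (hfi (congrArg Subtype.val h)))
  obtain ⟨t, ht, htR⟩ : ∃ t ∈ (T : Subgroup ↥H), f t ∉ zpowers σ := by
    by_contra hcon
    push Not at hcon
    have hRT : R = (T : Subgroup ↥H) := le_antisymm inf_le_left fun a ha => ⟨ha, hcon a ha⟩
    obtain ⟨K, hK⟩ := Involution.exists_index_two_of_cyclic_sylow hev T (hRT ▸ hRc)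
    haveI := normal_of_index_eq_two hK
    have := Transfer.pResidual_le_of_index (p := 2) (N := K) (n := 1) (by rw [hK, pow_one])
    rw [hO, top_le_iff] at this
    simp [this] at hK
  have hRi : R.relIndex (T : Subgroup ↥H) = 2 := by
    rw [relIndex, index_eq_two_iff]
    refine ⟨⟨t, ht⟩, fun y => ?_⟩
    rw [mem_subgroupOf, mem_subgroupOf, coe_mul, xor_iff_not_iff']
    constructor
    · intro h1
      rcases em (f y ∈ zpowers σ) with hy' | hy'
      · exact ⟨y.2, hy'⟩
      · refine absurd ⟨mul_mem y.2 ht, ?_⟩ h1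
        show f ((y : ↥H) * t) ∈ zpowers σ
        rw [map_mul]
        exact F.mul_mem_zpowers (hfT _ y.2) (hfT t ht) hy' htR
    · rintro ⟨-, (h2 : f y ∈ zpowers σ)⟩ ⟨-, (h1 : f ((y : ↥H) * t) ∈ zpowers σ)⟩
      rw [map_mul] at h1
      exact htR (by simpa using mul_mem (inv_mem h2) h1)
  exact isConj_of_residual hO T R inf_le_left hRi hx hy

theorem Frame.reflection_inverts {D : Subgroup X} {z σ τ : X} {j : ℕ} (F : Frame D z σ τ j)
    {t x : X} (ht : t ∈ D) (htR : t ∉ zpowers σ) (hx : x ∈ zpowers σ) : t * x * t⁻¹ = x⁻¹ := by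
  obtain ⟨i, rfl⟩ := F.exists_reflection ht htR
  obtain ⟨l, rfl⟩ := mem_zpowers_iff.1 hx
  calc τ * σ ^ i * σ ^ l * (τ * σ ^ i)⁻¹ = τ * σ ^ l * τ⁻¹ := by group
    _ = (σ ^ l)⁻¹ := by rw [F.tau_inv, F.tau_conj, zpow_neg]

/-- If `H` has a 2-quotient of order 2 and is normalised by a square root of `z`, it has no
four-group. -/
theorem eq_of_commute_index_two (S : Sylow 2 X) {n : ℕ}
    (e : ↥(S : Subgroup X) ≃* DihedralGroup n) {z σ τ : X} {j : ℕ}
    (F : Frame (S : Subgroup X) z σ τ j) (H : Subgroup X) (hzH : z ∈ H)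
    (hzN : (⟨z, hzH⟩ : ↥H) ∉ pResidual 2 ↥H)
    (hcov : ∀ h : ↥H, h ∈ pResidual 2 ↥H ∨ ⟨z, hzH⟩ * h ∈ pResidual 2 ↥H)
    (hnorm : 0 < j → ∀ x ∈ H, σ ^ (2 ^ (j - 1)) * x * (σ ^ (2 ^ (j - 1)))⁻¹ ∈ H)
    {p q : X} (hp : p ∈ H) (hq : q ∈ H) (hp2 : orderOf p = 2) (hq2 : orderOf q = 2)
    (hpq : p * q = q * p) : p = q := by
  haveI : Fact (Nat.Prime 2) := ⟨Nat.prime_two⟩
  by_contra hne
  set N := pResidual 2 ↥H with hN
  set z' : ↥H := ⟨z, hzH⟩ with hz'
  have hNi : N.index = 2 := by
    rw [index_eq_two_iff]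
    refine ⟨z', fun h => ?_⟩
    rw [xor_iff_not_iff', (inferInstance : N.Normal).mem_comm_iff]
    constructor
    · intro h1; exact (hcov h).resolve_right h1
    · intro h2 h1
      exact hzN (by simpa using mul_mem h1 (inv_mem h2))
  have hiff : ∀ a b : ↥H, a * b ∈ N ↔ (a ∈ N ↔ b ∈ N) := fun a b => mul_mem_iff_of_index_two hNi
  have hp1 := Involution.mul_self_of_orderOf hp2
  have hq1 := Involution.mul_self_of_orderOf hq2
  rcases Nat.eq_zero_or_pos j with rfl | hj
  · -- a Sylow four-group of `H`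
    have hS4 : IsKleinFour (S : Subgroup X) ∧ Nat.card (S : Subgroup X) = 4 := by
      have hle := F.zpowers_le
      have hi : ((zpowers σ).subgroupOf (S : Subgroup X)).index = 2 := by
        rw [index_eq_two_iff]
        refine ⟨⟨τ, F.tau_mem⟩, fun y => ?_⟩
        rw [mem_subgroupOf, mem_subgroupOf, coe_mul, xor_iff_not_iff']
        constructor
        · intro h1
          rcases em ((y : X) ∈ zpowers σ) with hy | hy
          · exact hy
          · exact absurd (F.mul_mem_zpowers y.2 F.tau_mem hy F.tau_not) h1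
        · intro (h2 : (y : X) ∈ zpowers σ) (h1 : (y : X) * τ ∈ zpowers σ)
          exact F.tau_not (by simpa using mul_mem (inv_mem h2) h1)
      have hcard : Nat.card (S : Subgroup X) = 4 := by
        rw [← card_mul_index ((zpowers σ).subgroupOf (S : Subgroup X)), hi,
          Nat.card_congr (subgroupOfEquivOfLe hle).toEquiv, Nat.card_zpowers, F.order]
        norm_num
      obtain rfl : n = 2 := by
        have := Nat.card_congr e.toEquiv
        rw [hcard, DihedralGroup.nat_card] at this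
        omega
      exact ⟨⟨hcard, by rw [Monoid.exponent_eq_of_mulEquiv e]; exact DihedralGroup.exponent.trans rfl⟩,
        hcard⟩
    set p' : ↥H := ⟨p, hp⟩ with hp'
    set q' : ↥H := ⟨q, hq⟩ with hq'
    have hc' : p' * q' = q' * p' := Subtype.ext hpq
    have hp'2 : orderOf p' = 2 := by rw [hp', orderOf_mk, hp2]
    have hq'2 : orderOf q' = 2 := by rw [hq', orderOf_mk, hq2]
    have hpgen : IsPGroup 2 (closure ({p', q'} : Set ↥H)) := by
      have hle : zpowers p' ≤ normalizer ((zpowers q' : Subgroup ↥H) : Set ↥H) := by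
        refine le_trans ?_ (centralizer_le_normalizer _)
        rw [zpowers_le, mem_centralizer_iff]
        intro y hy
        obtain ⟨l, rfl⟩ := mem_zpowers_iff.1 hy
        exact ((show Commute q' p' from hc'.symm).zpow_left l).eq
      have hpa : ∀ {v : ↥H}, orderOf v = 2 → IsPGroup 2 (zpowers v) := fun {v} hv =>
        IsPGroup.of_card (n := 1) (by rw [Nat.card_zpowers, hv]; rfl)
      refine ((hpa hp'2).to_sup_of_normal_right' (hpa hq'2) hle).to_le ?_
      rw [Subgroup.closure_le]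
      rintro x (rfl | rfl)
      · exact mem_sup_left (mem_zpowers _)
      · exact mem_sup_right (mem_zpowers _)
    obtain ⟨T, hT⟩ := hpgen.exists_le_sylow
    obtain ⟨f, hfi, -, hfT⟩ := exists_embed S H T
    have hpT : p' ∈ (T : Subgroup ↥H) := hT (Subgroup.subset_closure (Or.inl rfl))
    have hqT : q' ∈ (T : Subgroup ↥H) := hT (Subgroup.subset_closure (Or.inr rfl))
    set φ : (T : Subgroup ↥H) →* (S : Subgroup X) :=
      (f.comp (T : Subgroup ↥H).subtype).codRestrict _ fun t => hfT t t.2 with hφ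
    have hφi : Function.Injective φ := fun a b h => Subtype.ext (hfi (congrArg Subtype.val h))
    have hTcard : Nat.card (T : Subgroup ↥H) = 4 := by
      refine le_antisymm (hS4.2 ▸ Nat.card_le_card_of_injective φ hφi) ?_
      have h1 : ({1, p', q', p' * q'} : Set ↥H).ncard = 4 := by
        have a1 : p' ≠ 1 := Involution.ne_one_of_orderOf hp'2
        have a2 : q' ≠ 1 := Involution.ne_one_of_orderOf hq'2
        have a3 : p' ≠ q' := fun h => hne (congrArg Subtype.val h)
        have a4 : p' * q' ≠ 1 := fun h => a3 (by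
          rw [mul_eq_one_iff_eq_inv.1 h,
            inv_eq_of_mul_eq_one_right (Involution.mul_self_of_orderOf hq'2)])
        rw [Set.ncard_eq_four]
        exact ⟨1, p', q', p' * q', Ne.symm a1, Ne.symm a2, Ne.symm a4, a3,
          fun h => a2 (mul_eq_left.1 h.symm), fun h => a1 (mul_eq_right.1 h.symm), rfl⟩
      refine h1.ge.trans ?_
      show _ ≤ Nat.card ↥((T : Subgroup ↥H) : Set ↥H)
      rw [Nat.card_coe_set_eq]
      refine Set.ncard_le_ncard ?_
      rintro x (rfl | rfl | rfl | rfl)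
      exacts [one_mem _, hpT, hqT, mul_mem hpT hqT]
    have hφb : Function.Bijective φ :=
      (Nat.bijective_iff_injective_and_card _).2 ⟨hφi, by rw [hTcard, hS4.2]⟩
    haveI := hS4.1
    have hT4 : IsKleinFour (T : Subgroup ↥H) :=
      ⟨hTcard, by rw [Monoid.exponent_eq_of_mulEquiv (MulEquiv.ofBijective φ hφb)]
                  exact IsKleinFour.exponent_two⟩
    rcases Involution.klein_sylow_dichotomy T hT4 with h | h
    · have hc := MonoidHom.ker_transferSylow_isComplement' T h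
      have hle : N ≤ (MonoidHom.transferSylow T h).ker :=
        Transfer.pResidual_le_ker _ T.isPGroup'
      have := index_dvd_of_le hle
      rw [hc.symm.index_eq_card, hTcard, hNi] at this
      norm_num at this
    · have hzconj : ∀ v : ↥H, orderOf v = 2 → v ∉ N := by
        intro v hv hvN
        obtain ⟨g, hg⟩ := isConj_iff.1 (h v z' hv (by rw [hz', orderOf_mk, F.orderOf_z]))
        exact hzN (hg ▸ (inferInstance : N.Normal).conj_mem v hvN g)
      refine hzconj (p' * q') ?_ ((hiff p' q').2 (iff_of_false (hzconj _ hp'2) (hzconj _ hq'2)))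
      refine Involution.orderOf_eq_two_iff'.2 ⟨?_, fun h1 => hne ?_⟩
      · rw [show p' * q' * (p' * q') = p' * (q' * p') * q' by group, ← hc',
          show p' * (p' * q') * q' = p' * p' * (q' * q') by group,
          Involution.mul_self_of_orderOf hp'2, Involution.mul_self_of_orderOf hq'2, one_mul]
      · have := congrArg Subtype.val (mul_eq_one_iff_eq_inv.1 h1)
        rw [InvMemClass.coe_inv] at this
        exact this.trans (inv_eq_of_mul_eq_one_right hq1)
  -- a square root of `z` normalising `H`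
  set ε := σ ^ (2 ^ (j - 1)) with hε
  have hε2 : ε * ε = z := by
    rw [hε, ← pow_add, ← two_mul, ← pow_succ', show j - 1 + 1 = j by omega, F.half]
  have hεn : ε ∈ normalizer (H : Set X) := by
    refine mem_normalizer_fintype fun x hx => hnorm hj x hx
  have hεo : orderOf ε = 4 := by
    refine orderOf_eq_prime_pow (p := 2) (n := 1) ?_ ?_
    · rw [pow_one, sq, hε2]; exact Involution.ne_one_of_orderOf F.orderOf_z
    · rw [show (2 : ℕ) ^ (1 + 1) = 2 + 2 from rfl, pow_add, sq, hε2,
        Involution.mul_self_of_orderOf F.orderOf_z]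
  set K := normalizer (H : Set X) with hK
  have hHK : H ≤ K := le_normalizer
  set p' : ↥K := ⟨p, hHK hp⟩
  set q' : ↥K := ⟨q, hHK hq⟩
  set ε' : ↥K := ⟨ε, hεn⟩
  obtain ⟨Q, hQ⟩ := (IsPGroup.of_card (p := 2) (G := zpowers ε') (n := 2)
    (by rw [Nat.card_zpowers, orderOf_mk, hεo]; rfl)).exists_le_sylow
  have hpgen : ∃ R : Sylow 2 ↥K, p' ∈ (R : Subgroup ↥K) ∧ q' ∈ (R : Subgroup ↥K) := by
    have hc' : p' * q' = q' * p' := Subtype.ext hpq
    have hle : zpowers p' ≤ normalizer ((zpowers q' : Subgroup ↥K) : Set ↥K) := by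
      refine le_trans ?_ (centralizer_le_normalizer _)
      rw [zpowers_le, mem_centralizer_iff]
      intro y hy
      obtain ⟨l, rfl⟩ := mem_zpowers_iff.1 hy
      exact ((show Commute q' p' from hc'.symm).zpow_left l).eq
    have hpa : ∀ {v : ↥K}, orderOf v = 2 → IsPGroup 2 (zpowers v) := fun {v} hv =>
      IsPGroup.of_card (n := 1) (by rw [Nat.card_zpowers, hv]; rfl)
    obtain ⟨R, hR⟩ := ((hpa (v := p') (by rw [orderOf_mk, hp2])).to_sup_of_normal_right'
      (hpa (v := q') (by rw [orderOf_mk, hq2])) hle).exists_le_sylow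
    exact ⟨R, hR (mem_sup_left (mem_zpowers _)), hR (mem_sup_right (mem_zpowers _))⟩
  obtain ⟨R, hpR, hqR⟩ := hpgen
  obtain ⟨c, hc⟩ := MulAction.exists_smul_eq K R Q
  obtain ⟨f, hfi, ⟨g, hfg⟩, hfQ⟩ := exists_embed S K Q
  set pc := c * p' * c⁻¹
  set qc := c * q' * c⁻¹
  have hpc : pc ∈ (Q : Subgroup ↥K) := hc ▸ Involution.conj_mem_sylow_smul c hpR
  have hqc : qc ∈ (Q : Subgroup ↥K) := hc ▸ Involution.conj_mem_sylow_smul c hqR
  have hfε : f ε' ∈ zpowers σ := by
    by_contra hcon
    obtain ⟨i, hi⟩ := F.exists_reflection (hfQ _ (hQ (mem_zpowers ε'))) hcon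
    have := F.reflection_order i
    rw [← hi, orderOf_injective f hfi, orderOf_mk, hεo] at this
    omega
  obtain ⟨t, htH, htQ, htR⟩ : ∃ t : ↥K, (t : X) ∈ H ∧ t ∈ (Q : Subgroup ↥K) ∧ f t ∉ zpowers σ := by
    have hmem : ∀ v : ↥K, (v : X) ∈ H → ((c * v * c⁻¹ : ↥K) : X) ∈ H := fun v hv =>
      (mem_normalizer_iff.1 c.2 v).1 hv
    by_cases h1 : f pc ∈ zpowers σ
    · by_cases h2 : f qc ∈ zpowers σ
      · exfalso
        have e1 := F.eq_z h1 (by rw [orderOf_injective f hfi, orderOf_conj, orderOf_mk, hp2])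
        have e2 := F.eq_z h2 (by rw [orderOf_injective f hfi, orderOf_conj, orderOf_mk, hq2])
        exact hne (congrArg Subtype.val
          (mul_left_cancel (mul_right_cancel (hfi (e1.trans e2.symm)))))
      · exact ⟨qc, hmem _ hq, hqc, h2⟩
    · exact ⟨pc, hmem _ hp, hpc, h1⟩
  have ht : (t : X) * ε * (t : X)⁻¹ = ε⁻¹ := by
    have h1 := F.reflection_inverts (hfQ t htQ) htR hfε
    rw [← map_inv, ← map_mul, ← map_mul, ← map_inv] at h1
    exact congrArg Subtype.val (hfi h1)
  let ψ : ↥H →* ↥H := ((MulAut.conj ε).toMonoidHom.comp H.subtype).codRestrict H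
    fun x => hnorm hj x x.2
  have hψ : ∀ x : ↥H, x ∈ N → ψ x ∈ N := fun x hx =>
    Transfer.map_pResidual_le ψ ⟨x, hx, rfl⟩
  have hψz : ψ z' = z' := by
    refine Subtype.ext ?_
    show ε * z * ε⁻¹ = z
    rw [← hε2]; group
  have hψiff : ∀ x : ↥H, ψ x ∈ N ↔ x ∈ N := by
    refine fun x => ⟨fun h => ?_, hψ x⟩
    by_contra hx
    have h1 := hψ _ ((hiff z' x).2 (iff_of_false hzN hx))
    rw [map_mul, hψz] at h1
    exact hzN (((hiff z' (ψ x)).1 h1).2 h)
  refine hzN ?_
  have key : z' = (⟨t, htH⟩ : ↥H) * ψ (⟨t, htH⟩ : ↥H)⁻¹ := by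
    refine Subtype.ext ?_
    show z = (t : X) * (ε * (t : X)⁻¹ * ε⁻¹)
    calc z = (ε * ε)⁻¹ := by rw [hε2, inv_eq_of_mul_eq_one_right
          (Involution.mul_self_of_orderOf F.orderOf_z)]
      _ = (t : X) * ε * (t : X)⁻¹ * ε⁻¹ := by rw [ht]; group
      _ = _ := by group
  rw [key, hiff, hψiff, inv_mem_iff]

end Cfsg.Agent.DihInner81
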