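import Cfsg.Agent.DihInner81.Count
import Mathlib.GroupTheory.GroupAction.Quotient

/-!
# Fixed cosets of involutions
-/

set_option autoImplicit false
set_option linter.unusedSectionVars false
set_option linter.style.haveILetI false

open Subgroup

namespace Cfsg.Agent.DihInner81

universe u

variable {X : Type u} [Group X] [Finite X]

/-- The cosets of `H` fixed by `z`. -/
def fixCos (H : Subgroup X) (z : X) : Set (X ⧸ H) := {q | z • q = q}

theorem mk_mem_fixCos (H : Subgroup X) (z g : X) :
    (QuotientGroup.mk g : X ⧸ H) ∈ fixCos H z ↔ g⁻¹ * z * g ∈ H := by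
  rw [fixCos, Set.mem_setOf_eq, MulAction.Quotient.smul_mk, eq_comm, QuotientGroup.eq, smul_eq_mul,
    mul_assoc]

theorem ncard_fixCos_conj (H : Subgroup X) {z y : X} (h : IsConj z y) :
    (fixCos H y).ncard = (fixCos H z).ncard := by
  obtain ⟨g, rfl⟩ := isConj_iff.1 h
  rw [← Set.ncard_image_of_injective (fixCos H z) (MulAction.injective g)]
  congr 1
  ext q
  obtain ⟨x, rfl⟩ := QuotientGroup.mk_surjective q
  constructor
  · intro hq
    rw [mk_mem_fixCos] at hq
    refine ⟨QuotientGroup.mk (g⁻¹ * x), ?_, ?_⟩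
    · rw [mk_mem_fixCos]; simpa [mul_assoc] using hq
    · simp
  · rintro ⟨q', hq', he⟩
    obtain ⟨x', rfl⟩ := QuotientGroup.mk_surjective q'
    rw [mk_mem_fixCos] at hq'
    rw [← he]
    show (QuotientGroup.mk (g • x') : X ⧸ H) ∈ _
    rw [mk_mem_fixCos, smul_eq_mul]
    simpa [mul_assoc] using hq'

/-- Double counting of pairs (involution, fixed coset). -/
theorem inv_mul_fixCos (H : Subgroup X) {z : X}
    (hone : ∀ p : X, orderOf p = 2 → IsConj z p) :
    (invSet (⊤ : Subgroup X)).ncard * (fixCos H z).ncard = H.index * (invSet H).ncard := by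
  haveI := Fintype.ofFinite X
  haveI := Fintype.ofFinite (X ⧸ H)
  classical
  set S := (invSet (⊤ : Subgroup X)).toFinset with hS
  have h1 : ∀ p ∈ S, (Finset.univ.filter fun q : X ⧸ H => p • q = q).card = (fixCos H z).ncard := by
    intro p hp
    rw [hS, Set.mem_toFinset] at hp
    rw [← ncard_fixCos_conj H (hone p hp.2), fixCos, Set.ncard_eq_toFinset_card', Set.toFinset_setOf]
  have h2 : ∀ q : X ⧸ H, (S.filter fun p => p • q = q).card = (invSet H).ncard := by
    intro q
    obtain ⟨g, rfl⟩ := QuotientGroup.mk_surjective q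
    rw [← Set.ncard_image_of_injective (invSet H) (MulAut.conj g).injective, ← Set.ncard_coe_finset]
    congr 1
    ext p
    simp only [Finset.coe_filter, Set.mem_setOf_eq, hS, Set.mem_toFinset, Set.mem_image,
      MulAut.conj_apply]
    constructor
    · rintro ⟨hp, hq⟩
      exact ⟨g⁻¹ * p * g, ⟨(mk_mem_fixCos H p g).1 hq,
        by rw [← orderOf_conj g]; simpa [mul_assoc] using hp.2⟩, by group⟩
    · rintro ⟨x, ⟨hx, hx2⟩, rfl⟩
      refine ⟨⟨mem_top _, by rw [orderOf_conj, hx2]⟩, (mk_mem_fixCos H _ g).2 ?_⟩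
      simpa [mul_assoc] using hx
  calc (invSet (⊤ : Subgroup X)).ncard * (fixCos H z).ncard
      = ∑ p ∈ S, (Finset.univ.filter fun q : X ⧸ H => p • q = q).card := by
        rw [Finset.sum_congr rfl h1, Finset.sum_const, smul_eq_mul, hS, Set.ncard_eq_toFinset_card']
    _ = ∑ q : X ⧸ H, (S.filter fun p => p • q = q).card := by
        simp only [Finset.card_filter]
        exact Finset.sum_comm
    _ = H.index * (invSet H).ncard := by
        rw [Finset.sum_congr rfl fun q _ => h2 q, Finset.sum_const, smul_eq_mul, Finset.card_univ,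
          Subgroup.index, Nat.card_eq_fintype_card]

/-- Involutions no two of which lie in a common conjugate of `H`. -/
theorem card_mul_fixCos_le (H : Subgroup X) {z : X} (S : Finset X)
    (hone : ∀ p ∈ S, IsConj z p)
    (hdisj : ∀ p ∈ S, ∀ q ∈ S, p ≠ q → ∀ g : X, g⁻¹ * p * g ∈ H → g⁻¹ * q * g ∉ H) :
    S.card * (fixCos H z).ncard ≤ H.index := by
  haveI := Fintype.ofFinite (X ⧸ H)
  classical
  have h1 : ∀ p ∈ S, (fixCos H p).toFinset.card = (fixCos H z).ncard := fun p hp => by
    rw [← Set.ncard_eq_toFinset_card', ncard_fixCos_conj H (hone p hp)]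
  rw [← smul_eq_mul, ← Finset.sum_const, ← Finset.sum_congr rfl h1, ← Finset.card_biUnion]
  · exact (Finset.card_le_univ _).trans_eq
      (by rw [Subgroup.index, Nat.card_eq_fintype_card])
  intro p hp q hq hne
  rw [Function.onFun, Finset.disjoint_left]
  intro c hc hc'
  rw [Set.mem_toFinset] at hc hc'
  obtain ⟨g, rfl⟩ := QuotientGroup.mk_surjective c
  exact hdisj p hp q hq hne g ((mk_mem_fixCos H p g).1 hc) ((mk_mem_fixCos H q g).1 hc')

/-- The three involutions of the four-groups containing `z`. -/
theorem fix_ineq (H : Subgroup X) {z : X} (hz : orderOf z = 2) (hzH : z ∈ H)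
    (hone : ∀ p : X, orderOf p = 2 → IsConj z p)
    (hH : ∀ p ∈ H, orderOf p = 2 → ∃ h ∈ H, h * p * h⁻¹ = z) :
    3 * (fixCos H z).ncard * (comSet (⊤ : Subgroup X) z).ncard ≤
      H.index * (comSet (⊤ : Subgroup X) z).ncard +
        2 * (fixCos H z).ncard * (comSet H z).ncard := by
  haveI := Fintype.ofFinite X
  haveI := Fintype.ofFinite (X ⧸ H)
  classical
  set C := (comSet (⊤ : Subgroup X) z).toFinset with hC
  set Z := (fixCos H z).ncard with hZ
  have hone' : ∀ p : X, orderOf p = 2 →
      (Finset.univ.filter fun q : X ⧸ H => p • q = q).card = Z := by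
    intro p hp
    rw [hZ, ← ncard_fixCos_conj H (hone p hp), fixCos, Set.ncard_eq_toFinset_card',
      Set.toFinset_setOf]
  have hsum : ∀ q : X ⧸ H, z • q = q →
      (C.filter fun t => t • q = q).card = (comSet H z).ncard := by
    intro q hq
    obtain ⟨g, rfl⟩ := QuotientGroup.mk_surjective q
    have hg := (mk_mem_fixCos H z g).1 hq
    obtain ⟨h, hh, hhz⟩ := hH _ hg (by
      rw [← hz, ← orderOf_conj g]; congr 1; group)
    set k := g * h⁻¹ with hk
    have hgk : (QuotientGroup.mk g : X ⧸ H) = QuotientGroup.mk k := by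
      rw [hk, QuotientGroup.mk_mul_of_mem _ (inv_mem hh)]
    have hkz : k * z * k⁻¹ = z := by
      conv_lhs => rw [← hhz, hk]
      group
    rw [← Set.ncard_image_of_injective (comSet H z) (MulAut.conj k).injective,
      ← Set.ncard_coe_finset, hgk]
    congr 1
    ext t
    simp only [Finset.coe_filter, Set.mem_setOf_eq, hC, Set.mem_toFinset, Set.mem_image,
      MulAut.conj_apply]
    constructor
    · rintro ⟨⟨-, ht2, hne, hc⟩, hq'⟩
      refine ⟨k⁻¹ * t * k, ⟨(mk_mem_fixCos H t k).1 hq', ?_, ?_, ?_⟩, by group⟩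
      · rw [← orderOf_conj k]; simpa [mul_assoc] using ht2
      · intro he; apply hne; rw [← hkz, ← he]; group
      · rw [← conj_commute_iff k, hkz]; simpa [mul_assoc] using hc
    · rintro ⟨x, ⟨hx, hx2, hne, hc⟩, rfl⟩
      refine ⟨⟨mem_top _, by rw [orderOf_conj, hx2], ?_, ?_⟩, (mk_mem_fixCos H _ k).2 ?_⟩
      · intro he; exact hne (mul_left_cancel (mul_right_cancel (he.trans hkz.symm)))
      · have := (conj_commute_iff k x z).2 hc
        rwa [hkz] at this
      · simpa [mul_assoc] using hx
  have hone3 : ∀ t ∈ C, 3 * Z ≤ H.index +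
      2 * (Finset.univ.filter fun q : X ⧸ H => z • q = q ∧ t • q = q).card := by
    intro t ht
    rw [hC, Set.mem_toFinset] at ht
    obtain ⟨-, ht2, htne, htc⟩ := ht
    have hz1 := Involution.mul_self_of_orderOf hz
    have ht1 := Involution.mul_self_of_orderOf ht2
    have htz : orderOf (t * z) = 2 := by
      refine Involution.orderOf_eq_two_iff'.2 ⟨?_, fun h => htne ?_⟩
      · rw [show t * z * (t * z) = t * (z * t) * z by group, ← htc,
          show t * (t * z) * z = t * t * (z * z) by group, ht1, hz1, one_mul]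
      · rw [mul_eq_one_iff_eq_inv.1 h, inv_eq_of_mul_eq_one_right hz1]
    rw [show 3 * Z = Z + Z + Z by ring]
    conv_lhs => arg 1; arg 1; rw [← hone' z hz]
    conv_lhs => arg 1; arg 2; rw [← hone' t ht2]
    rw [← hone' (t * z) htz, Finset.card_filter, Finset.card_filter, Finset.card_filter,
      Finset.card_filter, Finset.mul_sum, Subgroup.index, Nat.card_eq_fintype_card,
      ← Finset.card_univ, Finset.card_eq_sum_ones, ← Finset.sum_add_distrib,
      ← Finset.sum_add_distrib, ← Finset.sum_add_distrib]
    refine Finset.sum_le_sum fun q _ => ?_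
    by_cases h1 : z • q = q
    · by_cases h2 : t • q = q
      · simp [h1, h2, mul_smul]
      · simp [h1, h2, mul_smul]
    · by_cases h2 : t • q = q
      · have h3 : ¬ (t * z) • q = q := by
          rw [mul_smul]
          intro h
          exact h1 (MulAction.injective t (h.trans h2.symm))
        simp [h1, h2, h3]
      · simp [h1, h2]
        split <;> omega
  calc 3 * Z * (comSet (⊤ : Subgroup X) z).ncard = ∑ _t ∈ C, 3 * Z := by
        rw [Finset.sum_const, smul_eq_mul, hC, Set.ncard_eq_toFinset_card', mul_comm]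
    _ ≤ ∑ t ∈ C, (H.index +
        2 * (Finset.univ.filter fun q : X ⧸ H => z • q = q ∧ t • q = q).card) :=
      Finset.sum_le_sum hone3
    _ = _ := by
      have h4 : ∑ t ∈ C, (Finset.univ.filter fun q : X ⧸ H => z • q = q ∧ t • q = q).card =
          Z * (comSet H z).ncard := by
        calc ∑ t ∈ C, (Finset.univ.filter fun q : X ⧸ H => z • q = q ∧ t • q = q).card
            = ∑ q : X ⧸ H, (C.filter fun t => z • q = q ∧ t • q = q).card := by
              simp only [Finset.card_filter]
              exact Finset.sum_comm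
          _ = ∑ q ∈ Finset.univ.filter (fun q : X ⧸ H => z • q = q),
              (C.filter fun t => t • q = q).card := by
              rw [Finset.sum_filter]
              refine Finset.sum_congr rfl fun q _ => ?_
              by_cases h1 : z • q = q <;> simp [h1]
          _ = _ := by
              rw [Finset.sum_congr rfl fun q hq => hsum q (Finset.mem_filter.1 hq).2,
                Finset.sum_const, smul_eq_mul, hone' z hz]
      rw [Finset.sum_add_distrib, Finset.sum_const, smul_eq_mul, ← Finset.mul_sum, h4, hC,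
        ← Set.ncard_eq_toFinset_card']
      ring

end Cfsg.Agent.DihInner81
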