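import Cfsg.Agent.DihInner81.Basic
import Mathlib.RingTheory.Coprime.Lemmas
import Mathlib.Tactic

/-!
# Involutory automorphisms of dihedral 2-groups with cyclic fixed points
-/

set_option autoImplicit false
set_option linter.unusedSectionVars false
set_option linter.style.haveILetI false

open Subgroup

namespace Cfsg.Agent.DihInner81

universe u

variable {G : Type u} [Group G] [Finite G]

/-- Coordinates of a dihedral 2-group `D` of order `2 ^ (j + 2)` with a chosen central involution. -/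
structure Frame (D : Subgroup G) (z σ τ : G) (j : ℕ) : Prop where
  sigma_mem : σ ∈ D
  tau_mem : τ ∈ D
  order : orderOf σ = 2 ^ (j + 1)
  half : σ ^ (2 ^ j) = z
  tau_sq : τ * τ = 1
  tau_not : τ ∉ zpowers σ
  inv : τ * σ * τ = σ⁻¹
  cover : ∀ x ∈ D, x ∈ zpowers σ ∨ τ * x ∈ zpowers σ

variable {D : Subgroup G} {z σ τ : G} {j : ℕ}

theorem Frame.z_mem (F : Frame D z σ τ j) : z ∈ zpowers σ :=
  F.half ▸ pow_mem (mem_zpowers σ) _

theorem Frame.zpowers_le (F : Frame D z σ τ j) : zpowers σ ≤ D :=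
  Subgroup.zpowers_le.2 F.sigma_mem

theorem Frame.orderOf_z (F : Frame D z σ τ j) : orderOf z = 2 := by
  rw [← F.half, orderOf_pow_of_dvd (by positivity) (by rw [F.order]; exact pow_dvd_pow 2 (by omega)),
    F.order, Nat.pow_div (by omega) two_pos, show j + 1 - j = 1 by omega, pow_one]

theorem Frame.eq_z (F : Frame D z σ τ j) {x : G} (hx : x ∈ zpowers σ) (hx2 : orderOf x = 2) :
    x = z :=
  congrArg Subtype.val (Involution.involution_unique_of_isCyclic (a := (⟨x, hx⟩ : zpowers σ))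
    (b := ⟨z, F.z_mem⟩) (by rw [orderOf_mk, hx2]) (by rw [orderOf_mk, F.orderOf_z]))

theorem Frame.tau_inv (F : Frame D z σ τ j) : τ⁻¹ = τ :=
  inv_eq_of_mul_eq_one_right F.tau_sq

theorem Frame.tau_conj (F : Frame D z σ τ j) (l : ℤ) : τ * σ ^ l * τ = σ ^ (-l) := by
  have h := conj_zpow (a := τ) (b := σ) (i := l)
  rw [F.tau_inv, F.inv, inv_zpow'] at h
  exact h.symm

theorem Frame.tau_commute_z (F : Frame D z σ τ j) : τ * z = z * τ := by
  have h : τ * z * τ = z := by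
    have h := F.tau_conj ((2 ^ j : ℕ) : ℤ)
    rw [zpow_natCast, F.half, zpow_neg, zpow_natCast, F.half,
      inv_eq_of_mul_eq_one_right (Involution.mul_self_of_orderOf F.orderOf_z)] at h
    exact h
  calc τ * z = τ * z * (τ * τ) := by rw [F.tau_sq, mul_one]
    _ = z * τ := by rw [← mul_assoc, h]

theorem Frame.reflection_sq (F : Frame D z σ τ j) (l : ℤ) : τ * σ ^ l * (τ * σ ^ l) = 1 := by
  rw [← mul_assoc, F.tau_conj, ← zpow_add, neg_add_cancel, zpow_zero]

theorem Frame.reflection_not (F : Frame D z σ τ j) (l : ℤ) : τ * σ ^ l ∉ zpowers σ := fun h =>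
  F.tau_not (by simpa using mul_mem h (inv_mem (zpow_mem (mem_zpowers σ) l)))

theorem Frame.exists_reflection (F : Frame D z σ τ j) {x : G} (hx : x ∈ D) (h : x ∉ zpowers σ) :
    ∃ l : ℤ, x = τ * σ ^ l := by
  obtain ⟨l, hl⟩ := mem_zpowers_iff.1 ((F.cover x hx).resolve_left h)
  exact ⟨l, by rw [hl, ← mul_assoc, F.tau_sq, one_mul]⟩

theorem Frame.reflection_order (F : Frame D z σ τ j) (l : ℤ) : orderOf (τ * σ ^ l) = 2 :=
  Involution.orderOf_eq_two_iff'.2
    ⟨F.reflection_sq l, fun h => F.reflection_not l (h ▸ one_mem _)⟩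

theorem Frame.mul_mem_zpowers (F : Frame D z σ τ j) {x y : G} (hx : x ∈ D) (hy : y ∈ D)
    (hxn : x ∉ zpowers σ) (hyn : y ∉ zpowers σ) : x * y ∈ zpowers σ := by
  obtain ⟨l, rfl⟩ := F.exists_reflection hx hxn
  obtain ⟨m, rfl⟩ := F.exists_reflection hy hyn
  rw [← mul_assoc, F.tau_conj]
  exact mul_mem (zpow_mem (mem_zpowers σ) _) (zpow_mem (mem_zpowers σ) _)

theorem Frame.conj_mem (F : Frame D z σ τ j) {g : G} (hg : ∀ x ∈ D, g * x * g⁻¹ ∈ D)
    (hgz : g * z * g⁻¹ = z) : ∀ r ∈ zpowers σ, g * r * g⁻¹ ∈ zpowers σ := by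
  have hs : g * σ * g⁻¹ ∈ zpowers σ := by
    by_contra h
    obtain ⟨l, hl⟩ := F.exists_reflection (hg σ F.sigma_mem) h
    have h2 : orderOf (g * σ * g⁻¹) = 2 := hl ▸ F.reflection_order l
    rw [← MulAut.conj_apply, MulEquiv.orderOf_eq, F.order] at h2
    have hj : j = 0 := by
      have := Nat.pow_right_injective le_rfl (a₁ := j + 1) (a₂ := 1) (by simpa using h2)
      omega
    apply h
    have hz : σ = z := by rw [← F.half, hj, pow_zero, pow_one]
    rw [hz, hgz]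
    exact mem_zpowers z
  intro r hr
  obtain ⟨l, rfl⟩ := mem_zpowers_iff.1 hr
  rw [← conj_zpow]
  exact zpow_mem hs l

/-- The arithmetic of an involutory automorphism of a dihedral group without fixed reflections. -/
theorem type_arith (j : ℕ) (u k : ℤ) (hu : (2 : ℤ) ^ (j + 1) ∣ u * u - 1)
    (hk : (2 : ℤ) ^ (j + 1) ∣ k * (1 + u))
    (hfix : ∀ l : ℤ, ¬ (2 : ℤ) ^ (j + 1) ∣ k + (u - 1) * l) :
    ((2 : ℤ) ^ (j + 1) ∣ u + 1 ∧ Odd k) ∨
      (0 < j ∧ (2 : ℤ) ^ (j + 1) ∣ u - 1 ∧ (2 : ℤ) ^ (j + 1) ∣ k - 2 ^ j) := by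
  have hodd : Odd u := by
    by_contra h
    rw [Int.not_odd_iff_even] at h
    obtain ⟨c, hc⟩ := (dvd_pow_self (2 : ℤ) (by omega : j + 1 ≠ 0)).trans hu
    obtain ⟨v, rfl⟩ := h
    have : (2 : ℤ) ∣ 1 := ⟨2 * v * v - c, by linear_combination -hc⟩
    omega
  obtain ⟨v, rfl⟩ := hodd
  by_cases hp : (2 : ℤ) ^ (j + 1) ∣ 2 * v + 1 + 1
  · refine Or.inl ⟨hp, ?_⟩
    by_contra h
    rw [Int.not_odd_iff_even] at h
    obtain ⟨l, rfl⟩ := h
    exact hfix l (by rw [show l + l + (2 * v + 1 - 1) * l = (2 * v + 1 + 1) * l by ring]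
                     exact dvd_mul_of_dvd_left hp l)
  by_cases hm : (2 : ℤ) ^ (j + 1) ∣ 2 * v + 1 - 1
  · have hj : 0 < j := by
      rcases Nat.eq_zero_or_pos j with h0 | h0
      · exact absurd ⟨v + 1, by rw [h0]; ring⟩ hp
      · exact h0
    refine Or.inr ⟨hj, hm, ?_⟩
    have h2 : (2 : ℤ) ^ (j + 1) ∣ k * 2 := by
      have := dvd_sub hk (dvd_mul_of_dvd_right hm k)
      rwa [show k * (1 + (2 * v + 1)) - k * (2 * v + 1 - 1) = k * 2 by ring] at this
    rw [pow_succ] at h2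
    obtain ⟨q, hq⟩ := (mul_dvd_mul_iff_right (two_ne_zero)).1 h2
    rcases Int.even_or_odd q with ⟨q', hq'⟩ | ⟨q', hq'⟩
    · exact (hfix 0 ⟨q', by rw [hq, hq', pow_succ]; ring⟩).elim
    · exact ⟨q', by rw [hq, hq', pow_succ]; ring⟩
  exfalso
  -- here `u ≡ ± 1 + 2 ^ j`
  have h4 : (2 : ℤ) ^ (j + 1) ∣ 4 * (v * (v + 1)) := by
    rwa [show (2 * v + 1) * (2 * v + 1) - 1 = 4 * (v * (v + 1)) by ring] at hu
  rcases Int.even_or_odd v with hv | hv
  · -- `v` even: `v + 1` is a unit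
    have hco : IsCoprime ((2 : ℤ) ^ (j + 1)) (v + 1) :=
      (Int.prime_two.coprime_iff_not_dvd.2 (by
        rw [← even_iff_two_dvd, Int.not_even_iff_odd]; exact hv.add_one)).pow_left
    have h5 : (2 : ℤ) ^ (j + 1) ∣ 4 * v := by
      refine hco.dvd_of_dvd_mul_right ?_
      rwa [mul_assoc]
    have h6 : (2 : ℤ) ^ (j + 1) ∣ 2 * k := by
      refine hco.dvd_of_dvd_mul_right ?_
      rwa [show 2 * k * (v + 1) = k * (1 + (2 * v + 1)) by ring]
    rw [pow_succ'] at h6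
    obtain ⟨q, hq⟩ := (mul_dvd_mul_iff_left (two_ne_zero)).1 h6
    rcases Int.even_or_odd q with ⟨q', hq'⟩ | ⟨q', hq'⟩
    · exact hfix 0 ⟨q', by rw [hq, hq', pow_succ]; ring⟩
    · -- `2v = 2 ^ j * odd`
      rw [pow_succ'] at h5
      obtain ⟨o, ho⟩ : (2 : ℤ) ^ j ∣ 2 * v :=
        (mul_dvd_mul_iff_left (two_ne_zero)).1 (by rwa [← mul_assoc, show (2 : ℤ) * 2 = 4 by rfl])
      rcases Int.even_or_odd o with ⟨o', ho'⟩ | ⟨o', ho'⟩
      · exact hm ⟨o', by rw [pow_succ]; linear_combination ho + (2 : ℤ) ^ j * ho'⟩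
      · refine hfix 1 ⟨q' + o' + 1, ?_⟩
        rw [hq, hq', pow_succ]
        linear_combination ho + (2 : ℤ) ^ j * ho'
  · -- `v` odd: `v` is a unit
    have hco : IsCoprime ((2 : ℤ) ^ (j + 1)) v :=
      (Int.prime_two.coprime_iff_not_dvd.2 (by
        rw [← even_iff_two_dvd, Int.not_even_iff_odd]; exact hv)).pow_left
    obtain ⟨x, y, hxy⟩ := hco
    have hk2 : Even k := by
      by_contra h
      rw [Int.not_even_iff_odd] at h
      exact hp (((Int.prime_two.coprime_iff_not_dvd.2 (by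
        rw [← even_iff_two_dvd, Int.not_even_iff_odd]; exact h)).pow_left).dvd_of_dvd_mul_left
          (by rwa [show (2 * v + 1 + 1 : ℤ) = 1 + (2 * v + 1) by ring]))
    obtain ⟨q, rfl⟩ := hk2
    exact hfix (-(y * q)) ⟨2 * (x * q), by linear_combination (-(2 * q)) * hxy⟩

/-- The action on a frame of an involution fixing no reflection. -/
theorem Frame.type_of (F : Frame D z σ τ j) {a : G} (ha : a * a = 1)
    (hnorm : ∀ x ∈ D, a * x * a ∈ D) (haz : a * z * a = z)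
    (hfix : ∀ x ∈ D, orderOf x = 2 → a * x * a = x → x = z) :
    ∃ k : ℤ, a * τ * a = τ * σ ^ k ∧
      ((a * σ * a = σ⁻¹ ∧ Odd k) ∨ (0 < j ∧ a * σ * a = σ ∧ σ ^ k = z)) := by
  have hai : a⁻¹ = a := inv_eq_of_mul_eq_one_right ha
  have hR := F.conj_mem (g := a) (by rw [hai]; exact hnorm) (by rw [hai]; exact haz)
  rw [hai] at hR
  obtain ⟨u, hu⟩ := mem_zpowers_iff.1 (hR σ (mem_zpowers σ))
  obtain ⟨k, hk⟩ := F.exists_reflection (hnorm τ F.tau_mem) (fun h => F.tau_not (by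
    have := hR _ h
    rwa [show a * (a * τ * a) * a = a * a * τ * (a * a) by group, ha, one_mul, mul_one] at this))
  have hpow : ∀ l : ℤ, a * σ ^ l * a = σ ^ (u * l) := fun l => by
    have h := conj_zpow (a := a) (b := σ) (i := l)
    rw [hai, ← hu, ← zpow_mul] at h
    exact h.symm
  have hmul : ∀ x y : G, a * (x * y) * a = a * x * a * (a * y * a) := fun x y =>
    calc a * (x * y) * a = a * x * 1 * y * a := by group
      _ = a * x * a * (a * y * a) := by rw [← ha]; group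
  have hMM : ((2 : ℤ) ^ (j + 1)) = (orderOf σ : ℤ) := by rw [F.order]; norm_num
  have hone : ∀ t : ℤ, σ ^ t = 1 ↔ (2 : ℤ) ^ (j + 1) ∣ t := fun t => by
    rw [hMM, orderOf_dvd_iff_zpow_eq_one]
  have huu : (2 : ℤ) ^ (j + 1) ∣ u * u - 1 := by
    rw [← hone, zpow_sub, zpow_one, mul_inv_eq_one, ← hpow, hu]
    calc a * (a * σ * a) * a = a * a * σ * (a * a) := by group
      _ = σ := by rw [ha, one_mul, mul_one]
  have hkk : (2 : ℤ) ^ (j + 1) ∣ k * (1 + u) := by
    rw [← hone]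
    have h1 : τ = τ * σ ^ k * σ ^ (u * k) := by
      rw [← hk, ← hpow, ← hmul, ← hk]
      calc τ = a * a * τ * (a * a) := by rw [ha, one_mul, mul_one]
        _ = a * (a * τ * a) * a := by group
    rw [mul_assoc, eq_comm, mul_eq_left, ← zpow_add] at h1
    rwa [show k * (1 + u) = k + u * k by ring]
  have hff : ∀ l : ℤ, ¬ (2 : ℤ) ^ (j + 1) ∣ k + (u - 1) * l := by
    intro l hl
    rw [← hone] at hl
    refine F.reflection_not l ((hfix _ (mul_mem F.tau_mem (F.zpowers_le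
      (zpow_mem (mem_zpowers σ) l))) (F.reflection_order l) ?_) ▸ F.z_mem)
    rw [hmul, hk, hpow, mul_assoc, ← zpow_add,
      show k + u * l = l + (k + (u - 1) * l) by ring, zpow_add σ l, hl, mul_one]
  refine ⟨k, hk, ?_⟩
  rcases type_arith j u k huu hkk hff with ⟨h1, h2⟩ | ⟨h1, h2, h3⟩
  · refine Or.inl ⟨?_, h2⟩
    rw [← hu, ← mul_eq_one_iff_eq_inv, ← zpow_add_one, hone]
    exact h1
  · refine Or.inr ⟨h1, ?_, ?_⟩
    · rw [← hu, ← mul_inv_eq_one, ← zpow_sub_one, hone]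
      exact h2
    · rw [← F.half, ← zpow_natCast, ← mul_inv_eq_one, ← zpow_sub, hone]
      exact_mod_cast h3

end Cfsg.Agent.DihInner81
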