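import Cfsg.Agent.DihInner81.Embed
import Cfsg.Agent.DihInner81.Brauer

/-!
# Four-groups of automorphisms with cyclic centralisers
-/

set_option autoImplicit false
set_option linter.unusedSectionVars false
set_option linter.style.haveILetI false

open Subgroup Cfsg

namespace Cfsg.Agent.DihInner81

universe u

section simple

variable {X : Type u} [Group X] [Finite X]

theorem comSet_pos_of_perfect (S : Sylow 2 X) {z σ τ : X} {j : ℕ}
    (F : Frame (S : Subgroup X) z σ τ j) (H : Subgroup X) (hzH : z ∈ H)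
    (hO : pResidual 2 ↥H = ⊤) : 0 < (comSet H z).ncard := by
  haveI : Fact (Nat.Prime 2) := ⟨Nat.prime_two⟩
  set z' : ↥H := ⟨z, hzH⟩ with hz'
  have hz'2 : orderOf z' = 2 := by rw [hz', orderOf_mk, F.orderOf_z]
  have hev : Even (Nat.card ↥H) := even_iff_two_dvd.2 (hz'2 ▸ orderOf_dvd_natCard z')
  have hnc : ∀ T : Sylow 2 ↥H, ¬ IsCyclic (T : Subgroup ↥H) := by
    intro T hT
    obtain ⟨K, hK⟩ := Involution.exists_index_two_of_cyclic_sylow hev T hT
    haveI := normal_of_index_eq_two hK
    have := Transfer.pResidual_le_of_index (p := 2) (N := K) (n := 1) (by rw [hK, pow_one])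
    rw [hO, top_le_iff] at this
    simp [this] at hK
  obtain ⟨T, hT⟩ := (IsPGroup.of_card (p := 2) (G := zpowers z') (n := 1)
    (by rw [Nat.card_zpowers, hz'2]; rfl)).exists_le_sylow
  have hzT : z' ∈ (T : Subgroup ↥H) := hT (mem_zpowers _)
  obtain ⟨f, hfi, -, hfT⟩ := exists_embed S H T
  have hfz2 : orderOf (f z') = 2 := by rw [orderOf_injective f hfi, hz'2]
  have hzS : ∀ s ∈ (S : Subgroup X), s ∉ zpowers σ → s * z = z * s := by
    intro s hs hsR
    have h := F.reflection_inverts hs hsR F.z_mem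
    rw [inv_eq_of_mul_eq_one_right (Involution.mul_self_of_orderOf F.orderOf_z),
      mul_inv_eq_iff_eq_mul] at h
    exact h
  obtain ⟨y, hy2, hyne, hyc⟩ : ∃ y : ↥H, orderOf y = 2 ∧ y ≠ z' ∧ y * z' = z' * y := by
    by_cases hzR : f z' ∈ zpowers σ
    · have hfz := F.eq_z hzR hfz2
      obtain ⟨t, ht, htR⟩ : ∃ t ∈ (T : Subgroup ↥H), f t ∉ zpowers σ := by
        by_contra hcon
        push Not at hcon
        exact hnc T (isCyclic_of_injective
          ((f.comp (T : Subgroup ↥H).subtype).codRestrict (zpowers σ) fun r => hcon r r.2)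
          (fun a b h => Subtype.ext (hfi (congrArg Subtype.val h))))
      refine ⟨t, ?_, fun h => htR (h ▸ hzR), hfi ?_⟩
      · obtain ⟨i, hi⟩ := F.exists_reflection (hfT t ht) htR
        rw [← orderOf_injective f hfi, hi, F.reflection_order]
      · rw [map_mul, map_mul, hfz]
        exact hzS _ (hfT t ht) htR
    · obtain ⟨r, hrT, hrR, hr1⟩ : ∃ r ∈ (T : Subgroup ↥H), f r ∈ zpowers σ ∧ r ≠ 1 := by
        by_contra hcon
        push Not at hcon
        refine hnc T ?_
        have hTle : (T : Subgroup ↥H) ≤ zpowers z' := by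
          intro t ht
          by_cases htR : f t ∈ zpowers σ
          · rw [hcon t ht htR]; exact one_mem _
          · have h1 : t * z' = 1 := hcon _ (mul_mem ht hzT) (by
              rw [map_mul]; exact F.mul_mem_zpowers (hfT t ht) (hfT _ hzT) htR hzR)
            rw [mul_eq_one_iff_eq_inv.1 h1]
            exact inv_mem (mem_zpowers _)
        exact isCyclic_of_injective (inclusion hTle) (inclusion_injective hTle)
      have h2 : 2 ∣ orderOf r := by
        obtain ⟨k, hk⟩ := T.isPGroup' ⟨r, hrT⟩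
        obtain ⟨i, -, hi⟩ := (Nat.dvd_prime_pow Nat.prime_two).1
          (orderOf_dvd_of_pow_eq_one (congrArg Subtype.val hk : r ^ 2 ^ k = 1))
        rw [hi]
        refine dvd_pow_self 2 ?_
        rintro rfl
        exact hr1 (orderOf_eq_one_iff.1 (by simpa using hi))
      set c := r ^ (orderOf r / 2) with hc
      have hc2 : orderOf c = 2 := orderOf_pow_orderOf_div (orderOf_pos r).ne' h2
      have hcR : f c ∈ zpowers σ := by rw [hc, map_pow]; exact pow_mem hrR _
      have hfc := F.eq_z hcR (by rw [orderOf_injective f hfi, hc2])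
      refine ⟨c, hc2, fun h => hzR (h ▸ hcR), hfi ?_⟩
      rw [map_mul, map_mul, hfc]
      exact (hzS _ (hfT _ hzT) hzR).symm
  refine (Set.ncard_pos (Set.toFinite _)).2 ⟨y, y.2, by rw [orderOf_coe, hy2], fun h => hyne (Subtype.ext h), ?_⟩
  exact congrArg Subtype.val hyc

/-- The numerical contradiction inside the simple group. -/
theorem false_of_counts [IsSimpleGroup X] (hna : ¬ IsMulCommutative X) (S : Sylow 2 X) {n : ℕ}
    (e : ↥(S : Subgroup X) ≃* DihedralGroup n) {z σ τ : X} {j : ℕ}
    (F : Frame (S : Subgroup X) z σ τ j)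
    (hone : ∀ p q : X, orderOf p = 2 → orderOf q = 2 → IsConj p q)
    (H : Subgroup X) (hzH : z ∈ H) (hH : H ≠ ⊤)
    (hcov : ∀ h : ↥H, h ∈ pResidual 2 ↥H ∨ ⟨z, hzH⟩ * h ∈ pResidual 2 ↥H)
    (hnorm : 0 < j → ∀ x ∈ H, σ ^ (2 ^ (j - 1)) * x * (σ ^ (2 ^ (j - 1)))⁻¹ ∈ H)
    {m : ℕ} (hm : 0 < m) (hQ : (invSet H).ncard = m * (m + (comSet H z).ncard))
    (hP : (invSet (⊤ : Subgroup X)).ncard = m * (m + (comSet (⊤ : Subgroup X) z).ncard)) :
    False := by
  classical
  have hz := F.orderOf_z
  have hzc : z ∈ zpowers σ := F.z_mem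
  obtain ⟨hb, hb0⟩ := brauer_bound hna S e F hone
  rw [hP] at hb hb0
  set R := (comSet (⊤ : Subgroup X) z).ncard with hR
  set RH := (comSet H z).ncard with hRH
  have hdc := inv_mul_fixCos H (z := z) (fun p hp => hone z p hz hp)
  rw [hP, hQ] at hdc
  set Z := (fixCos H z).ncard with hZ
  have hZ0 : 0 < Z := (Set.ncard_pos (Set.toFinite _)).2 ⟨QuotientGroup.mk 1, by
    rw [mk_mem_fixCos, inv_one, one_mul, mul_one]; exact hzH⟩
  have hcancel : (m + R) * Z = H.index * (m + RH) := by
    refine Nat.eq_of_mul_eq_mul_left hm ?_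
    rw [← mul_assoc, hdc]; ring
  have hsub : comSet H z ⊆ comSet (⊤ : Subgroup X) z := fun y hy => ⟨mem_top y, hy.2⟩
  have hle : RH ≤ R := Set.ncard_le_ncard hsub
  by_cases hzN : (⟨z, hzH⟩ : ↥H) ∈ pResidual 2 ↥H
  · have hO : pResidual 2 ↥H = ⊤ := eq_top_iff.2 fun h _ => by
      rcases hcov h with h' | h'
      · exact h'
      · simpa using mul_mem (inv_mem hzN) h'
    have hpos := comSet_pos_of_perfect S F H hzH hO
    rw [← hRH] at hpos
    have hfx := fix_ineq H hz hzH (fun p hp => hone z p hz hp) (fun p hp hp2 => by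
      obtain ⟨g, hg⟩ := isConj_iff.1 (isConj_in_perfect S F H hO (x := ⟨p, hp⟩) (y := ⟨z, hzH⟩)
        (by rw [orderOf_mk, hp2]) (by rw [orderOf_mk, hz]))
      exact ⟨g, g.2, congrArg Subtype.val hg⟩)
    rw [← hR, ← hRH, ← hZ] at hfx
    have h1 : (m + RH) * (3 * R) ≤ (m + R) * R + (m + RH) * (2 * RH) := by
      refine Nat.le_of_mul_le_mul_right ?_ hZ0
      calc (m + RH) * (3 * R) * Z = (m + RH) * (3 * Z * R) := by ring
        _ ≤ (m + RH) * (H.index * R + 2 * Z * RH) := Nat.mul_le_mul_left _ hfx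
        _ = H.index * (m + RH) * R + (m + RH) * (2 * RH) * Z := by ring
        _ = ((m + R) * R + (m + RH) * (2 * RH)) * Z := by rw [← hcancel]; ring
    rcases eq_or_lt_of_le hle with h | h
    · -- every involution lies in `H`
      refine hH ?_
      have heq : invSet H = invSet (⊤ : Subgroup X) :=
        Set.eq_of_subset_of_ncard_le (fun y hy => ⟨mem_top y, hy.2⟩) (by rw [hP, hQ, h])
      have hn : (closure (invSet (⊤ : Subgroup X))).Normal := by
        refine ⟨fun x hx g => ?_⟩
        induction hx using closure_induction with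
        | mem y hy => exact Subgroup.subset_closure ⟨mem_top _, by rw [orderOf_conj]; exact hy.2⟩
        | one => simp
        | mul x y _ _ hx hy =>
          rw [show g * (x * y) * g⁻¹ = g * x * g⁻¹ * (g * y * g⁻¹) by group]
          exact mul_mem hx hy
        | inv x _ hx =>
          rw [show g * x⁻¹ * g⁻¹ = (g * x * g⁻¹)⁻¹ by group]
          exact inv_mem hx
      rcases hn.eq_bot_or_eq_top with h' | h'
      · exfalso
        have : z ∈ closure (invSet (⊤ : Subgroup X)) :=
          Subgroup.subset_closure ⟨mem_top z, hz⟩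
        rw [h', mem_bot] at this
        exact Involution.ne_one_of_orderOf hz this
      · refine eq_top_iff.2 (h'.ge.trans ?_)
        rw [← heq, Subgroup.closure_le]
        exact fun y hy => hy.1
    · have h2 : 2 * m + 2 * RH ≤ R := by
        by_contra hlt
        push Not at hlt
        nlinarith [Nat.mul_lt_mul_of_pos_left hlt (Nat.sub_pos_of_lt h), Nat.sub_add_cancel hle]
      nlinarith
  · have hno := fun {p q : X} (hp : p ∈ H) (hq : q ∈ H) (hp2 : orderOf p = 2)
      (hq2 : orderOf q = 2) (hpq : p * q = q * p) =>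
      eq_of_commute_index_two S e F H hzH hzN hcov hnorm hp hq hp2 hq2 hpq
    have hRH0 : RH = 0 := by
      rw [hRH, Set.ncard_eq_zero, Set.eq_empty_iff_forall_notMem]
      rintro y ⟨hy, hy2, hne, hc⟩
      exact hne (hno hy hzH hy2 hz hc)
    rw [hRH0, add_zero] at hcancel
    have hτ : orderOf τ = 2 := by simpa using F.reflection_order 0
    have hτz : τ ≠ z := fun h => F.tau_not (h ▸ hzc)
    have hz1 := Involution.mul_self_of_orderOf hz
    have hcz : ∀ l : ℤ, σ ^ l * z = z * σ ^ l := by
      intro l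
      obtain ⟨i, hi⟩ := mem_zpowers_iff.1 hzc
      rw [← hi, ← zpow_add, ← zpow_add, add_comm]
    have hrefl : ∀ l : ℤ, τ * σ ^ l * z = z * (τ * σ ^ l) ∧ τ * σ ^ l ≠ z := fun l => ⟨by
      rw [mul_assoc, hcz, ← mul_assoc, F.tau_commute_z, mul_assoc],
      fun h => F.reflection_not l (h ▸ hzc)⟩
    have hτz' : τ * z = τ * σ ^ ((2 ^ j : ℕ) : ℤ) := by rw [zpow_natCast, F.half]
    have hdis : ∀ p q : X, orderOf p = 2 → orderOf q = 2 → p ≠ q →
        (p * q = q * p ∨ ((p * q) ^ (2 ^ j) = z ∧ p * z = z * p ∧ p ≠ z)) →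
        ∀ g : X, g⁻¹ * p * g ∈ H → g⁻¹ * q * g ∉ H := by
      intro p q hp hq hne hcase g hgp hgq
      rcases hcase with h | ⟨hpow, hc, hpz⟩
      · have := hno hgp hgq (by rw [← hp, ← orderOf_conj g⁻¹ p]; simp)
          (by rw [← hq, ← orderOf_conj g⁻¹ q]; simp)
          (by simpa using (conj_commute_iff g⁻¹ p q).2 h)
        exact hne (mul_left_cancel (mul_right_cancel this))
      · have hgz : g⁻¹ * z * g ∈ H := by
          have h1 : g⁻¹ * z * g = (g⁻¹ * p * g * (g⁻¹ * q * g)) ^ (2 ^ j) := by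
            rw [← hpow, show g⁻¹ * p * g * (g⁻¹ * q * g) = g⁻¹ * (p * q) * g⁻¹⁻¹ by group,
              conj_pow]
            group
          rw [h1]
          exact pow_mem (mul_mem hgp hgq) _
        have := hno hgp hgz (by rw [← hp, ← orderOf_conj g⁻¹ p]; simp)
          (by rw [← hz, ← orderOf_conj g⁻¹ z]; simp)
          (by simpa using (conj_commute_iff g⁻¹ p z).2 hc)
        exact hpz (mul_left_cancel (mul_right_cancel this))
    have hc3 : τ * (τ * z) = τ * z * τ := by
      rw [mul_assoc τ z τ, ← F.tau_commute_z]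
    have hτzo : orderOf (τ * z) = 2 := by rw [hτz']; exact F.reflection_order _
    have hz1' : z ≠ 1 := Involution.ne_one_of_orderOf hz
    have hτne : τ ≠ τ * z := fun h => hz1' (mul_eq_left.1 h.symm)
    have hτz2 := hrefl ((2 ^ j : ℕ) : ℤ)
    rw [← hτz'] at hτz2
    rcases Nat.eq_zero_or_pos j with hj | hj
    · have hS := card_mul_fixCos_le H (z := z) {z, τ, τ * z}
        (fun p hp => hone z p hz (by
          simp only [Finset.mem_insert, Finset.mem_singleton] at hp
          rcases hp with rfl | rfl | rfl <;> assumption))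
        (fun p hp q hq hne => by
          simp only [Finset.mem_insert, Finset.mem_singleton] at hp hq
          have ho : orderOf p = 2 ∧ orderOf q = 2 := by
            constructor
            · rcases hp with rfl | rfl | rfl <;> assumption
            · rcases hq with rfl | rfl | rfl <;> assumption
          refine hdis p q ho.1 ho.2 hne (Or.inl ?_)
          rcases hp with rfl | rfl | rfl <;> rcases hq with rfl | rfl | rfl
          exacts [rfl, F.tau_commute_z.symm, hτz2.1.symm, F.tau_commute_z, rfl, hc3,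
            hτz2.1, hc3.symm, rfl])
      rw [Finset.card_insert_of_notMem (by simp [hτz.symm, hτz2.2.symm]),
        Finset.card_insert_of_notMem (by simp [hτne]), Finset.card_singleton, ← hZ] at hS
      have h2 : 2 * m ≤ R := by
        refine Nat.le_of_mul_le_mul_left ?_ hZ0
        nlinarith [Nat.mul_le_mul_right m hS]
      have := hb0 hj
      nlinarith
    · set u := τ * σ ^ (1 : ℤ) with hu
      obtain ⟨huz, hune⟩ := hrefl 1
      rw [← hu] at huz hune
      have huo : orderOf u = 2 := F.reflection_order 1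
      have hσ1 : σ ≠ 1 := fun h => by
        have := F.order
        rw [h, orderOf_one] at this
        exact absurd this.symm (Nat.one_lt_two_pow (by omega)).ne'
      have hp1 : (τ * u) ^ (2 ^ j) = z := by
        rw [hu, ← mul_assoc, F.tau_sq, one_mul, zpow_one, F.half]
      have hp2 : (u * τ) ^ (2 ^ j) = z := by
        have : u * τ = (τ * u)⁻¹ := by
          rw [mul_inv_rev, F.tau_inv, inv_eq_of_mul_eq_one_right
            (Involution.mul_self_of_orderOf huo)]
        rw [this, inv_pow, hp1, inv_eq_of_mul_eq_one_right hz1]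
      have hev : z ^ (2 ^ j) = 1 := orderOf_dvd_iff_pow_eq_one.1
        (by rw [hz]; exact dvd_pow_self 2 hj.ne')
      have hp3 : (τ * z * u) ^ (2 ^ j) = z := by
        rw [show τ * z * u = z * (τ * u) by rw [F.tau_commute_z, mul_assoc],
          Commute.mul_pow (by
            show z * (τ * u) = τ * u * z
            calc z * (τ * u) = z * τ * u := (mul_assoc z τ u).symm
              _ = τ * (z * u) := by rw [← F.tau_commute_z, mul_assoc τ z u]
              _ = τ * (u * z) := by rw [huz]
              _ = τ * u * z := (mul_assoc τ u z).symm),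
          hev, one_mul, hp1]
      have hp4 : (u * (τ * z)) ^ (2 ^ j) = z := by
        have : u * (τ * z) = (τ * z * u)⁻¹ := by
          rw [mul_inv_rev, inv_eq_of_mul_eq_one_right (Involution.mul_self_of_orderOf huo),
            inv_eq_of_mul_eq_one_right (Involution.mul_self_of_orderOf hτzo)]
        rw [this, inv_pow, hp3, inv_eq_of_mul_eq_one_right hz1]
      have hτu : τ ≠ u := fun h => hσ1 (by
        rw [hu, zpow_one] at h
        exact mul_eq_left.1 h.symm)
      have hτzu : τ * z ≠ u := fun h => by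
        rw [hu, zpow_one] at h
        have h1 := congrArg orderOf (mul_left_cancel h)
        rw [hz, F.order] at h1
        have : 2 ^ 1 < 2 ^ (j + 1) := Nat.pow_lt_pow_right (by norm_num) (by omega)
        omega
      have hS := card_mul_fixCos_le H (z := z) {z, τ, τ * z, u}
        (fun p hp => hone z p hz (by
          simp only [Finset.mem_insert, Finset.mem_singleton] at hp
          rcases hp with rfl | rfl | rfl | rfl <;> assumption))
        (fun p hp q hq hne => by
          simp only [Finset.mem_insert, Finset.mem_singleton] at hp hq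
          have ho : orderOf p = 2 ∧ orderOf q = 2 := by
            constructor
            · rcases hp with rfl | rfl | rfl | rfl <;> assumption
            · rcases hq with rfl | rfl | rfl | rfl <;> assumption
          refine hdis p q ho.1 ho.2 hne ?_
          rcases hp with rfl | rfl | rfl | rfl <;> rcases hq with rfl | rfl | rfl | rfl
          exacts [Or.inl rfl, Or.inl F.tau_commute_z.symm, Or.inl hτz2.1.symm, Or.inl huz.symm,
            Or.inl F.tau_commute_z, Or.inl rfl, Or.inl hc3, Or.inr ⟨hp1, F.tau_commute_z, hτz⟩,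
            Or.inl hτz2.1, Or.inl hc3.symm, Or.inl rfl, Or.inr ⟨hp3, hτz2⟩,
            Or.inl huz, Or.inr ⟨hp2, huz, hune⟩, Or.inr ⟨hp4, huz, hune⟩, Or.inl rfl])
      rw [Finset.card_insert_of_notMem (by simp [hτz.symm, hτz2.2.symm, hune.symm]),
        Finset.card_insert_of_notMem (by simp [hτne, hτu]),
        Finset.card_insert_of_notMem (by simp [hτzu]), Finset.card_singleton, ← hZ] at hS
      have h2 : 3 * m ≤ R := by
        refine Nat.le_of_mul_le_mul_left ?_ hZ0
        nlinarith [Nat.mul_le_mul_right m hS]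
      nlinarith

end simple

variable {G : Type u} [Group G] [Finite G]

theorem ncard_invSet_subgroupOf {K L : Subgroup G} (h : K ≤ L) :
    (invSet (K.subgroupOf L)).ncard = (invSet K).ncard := by
  rw [← Set.ncard_image_of_injective (invSet (K.subgroupOf L)) L.subtype_injective]
  congr 1
  ext x
  constructor
  · rintro ⟨y, ⟨hy, hy2⟩, rfl⟩
    exact ⟨mem_subgroupOf.1 hy, by rw [coe_subtype, orderOf_coe, hy2]⟩
  · rintro ⟨hx, hx2⟩
    exact ⟨⟨x, h hx⟩, ⟨mem_subgroupOf.2 hx, by rw [orderOf_mk, hx2]⟩, rfl⟩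

theorem ncard_comSet_subgroupOf {K L : Subgroup G} (h : K ≤ L) {z : G} (hz : z ∈ L) :
    (comSet (K.subgroupOf L) ⟨z, hz⟩).ncard = (comSet K z).ncard := by
  rw [← Set.ncard_image_of_injective (comSet (K.subgroupOf L) ⟨z, hz⟩) L.subtype_injective]
  congr 1
  ext x
  constructor
  · rintro ⟨y, ⟨hy, hy2, hne, hc⟩, rfl⟩
    exact ⟨mem_subgroupOf.1 hy, by rw [coe_subtype, orderOf_coe, hy2],
      fun e => hne (Subtype.ext e), congrArg Subtype.val hc⟩
  · rintro ⟨hx, hx2, hne, hc⟩
    exact ⟨⟨x, h hx⟩, ⟨mem_subgroupOf.2 hx, by rw [orderOf_mk, hx2],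
      fun e => hne (congrArg Subtype.val e), Subtype.ext hc⟩, rfl⟩

/-- Two distinct commuting involutions with cyclic centralisers on `L` generate, with these
centralisers' involutions, all of `L`. -/
theorem false_of_pair (L : Subgroup G) [L.Normal] [IsSimpleGroup ↥L]
    (hna : ¬ IsMulCommutative ↥L) (hC : centralizer (L : Set G) = ⊥)
    (hD : ∀ P : Sylow 2 ↥L, ∃ n : ℕ, Nonempty (↥(P : Subgroup ↥L) ≃* DihedralGroup n))
    {a b : G} (ha : orderOf a = 2) (hb : orderOf b = 2) (hab : a ≠ b) (hc : a * b = b * a)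
    (hgen : L ⊔ closure ({a, b} : Set G) = ⊤)
    (hA : OddProd (L ⊓ centralizer {a})) (hB : OddProd (L ⊓ centralizer {b}))
    (hnot : ¬ L ≤ closure (invSet (L ⊓ centralizer ({a} : Set G)) ∪
      invSet (L ⊓ centralizer ({b} : Set G)))) : False := by
  obtain ⟨z, σ, τ, j, D, S, F, hSD, haL, haz, rfl, haσ⟩ :=
    exists_setup L hna hC hD ha hb hab hc hgen hA hB
  have ha1 := Involution.mul_self_of_orderOf ha
  have hai := inv_eq_of_mul_eq_one_right ha1
  have hzD : z ∈ D := F.zpowers_le F.z_mem
  have hDL : D ≤ L := hSD ▸ map_subtype_le _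
  have hzL := hDL hzD
  have hz := F.orderOf_z
  have hz1 := Involution.mul_self_of_orderOf hz
  have haz2 : a * z * a = z := by rw [haz, mul_assoc, ha1, mul_one]
  have hcov : ∀ g : G, g ∈ L ∨ a * g ∈ L := by
    intro g
    obtain ⟨l, hl, w, hw, rfl⟩ := mem_sup_of_normal_left.1 (hgen ▸ mem_top g)
    have hP : ∀ w ∈ closure ({a, a * z} : Set G), w ∈ L ∨ a * w ∈ L := by
      intro w hw
      induction hw using closure_induction with
      | mem x hx =>
        rcases hx with rfl | rfl
        · exact Or.inr (by rw [ha1]; exact one_mem L)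
        · exact Or.inr (by rw [← mul_assoc, ha1, one_mul]; exact hzL)
      | one => exact Or.inl (one_mem L)
      | mul x y _ _ hx hy =>
        rcases hx with hx | hx <;> rcases hy with hy | hy
        · exact Or.inl (mul_mem hx hy)
        · refine Or.inr ?_
          rw [show a * (x * y) = a * x * a⁻¹ * (a * y) by group]
          exact mul_mem (Normal.conj_mem inferInstance _ hx a) hy
        · exact Or.inr (by rw [← mul_assoc]; exact mul_mem hx hy)
        · refine Or.inl ?_
          rw [show x * y = a⁻¹ * (a * x * a⁻¹) * a * y by group]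
          have h1 : a⁻¹ * (a * x * a⁻¹) * a * y = a * (a * x) * a⁻¹ * (a * y) := by
            rw [show a⁻¹ * (a * x * a⁻¹) * a * y = x * y by group, ← mul_assoc a a x, ha1,
              one_mul, mul_assoc x, ← mul_assoc a⁻¹, inv_mul_cancel, one_mul]
          rw [h1]
          exact mul_mem (Normal.conj_mem inferInstance _ hx a) hy
      | inv x _ hx =>
        rcases hx with hx | hx
        · exact Or.inl (inv_mem hx)
        · refine Or.inr ?_
          rw [show a * x⁻¹ = a * ((a * x)⁻¹ * a) by group]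
          rw [show a * ((a * x)⁻¹ * a) = a * (a * x)⁻¹ * a⁻¹ * (a * a) by group, ha1, mul_one]
          exact Normal.conj_mem inferInstance _ (inv_mem hx) a
    rcases hP w hw with h | h
    · exact Or.inl (mul_mem hl h)
    · refine Or.inr ?_
      rw [show a * (l * w) = a * l * a⁻¹ * (a * w) by group]
      exact mul_mem (Normal.conj_mem inferInstance _ hl a) h
  have hcov' : ∀ g : G, g ∈ L ∨ a * z * g ∈ L := fun g => by
    rcases hcov (z * g) with h | h
    · exact Or.inl (by simpa using mul_mem (inv_mem hzL) h)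
    · exact Or.inr (by rw [mul_assoc]; exact h)
  have haz'L : a * z ∉ L := fun h => haL (by simpa using mul_mem h (inv_mem hzL))
  have hazz : a * z * z = z * (a * z) := by rw [← mul_assoc z a z, ← haz]
  have e1 : a * z * z = a := by rw [mul_assoc, hz1, mul_one]
  set A := L ⊓ centralizer ({a} : Set G) with hAdef
  set B := L ⊓ centralizer ({a * z} : Set G) with hBdef
  set U := invSet A ∪ invSet B with hU
  set K := closure U with hK
  have hKL : K ≤ L := by
    rw [hK, Subgroup.closure_le]
    rintro u (hu | hu) <;> exact hu.1.1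
  have hAK : invSet A ⊆ K := fun u hu => Subgroup.subset_closure (Or.inl hu)
  have hBK : invSet B ⊆ K := fun u hu => Subgroup.subset_closure (Or.inr hu)
  have hAL : invSet A ⊆ L := fun u hu => hKL (hAK hu)
  have hBL : invSet B ⊆ L := fun u hu => hKL (hBK hu)
  have hzA : z ∈ invSet A :=
    ⟨mem_inf.2 ⟨hzL, mem_centralizer_singleton_iff.2 haz.symm⟩, hz⟩
  have hzB : z ∈ invSet B :=
    ⟨mem_inf.2 ⟨hzL, mem_centralizer_singleton_iff.2 hazz.symm⟩, hz⟩
  have hA' : OddProd (L ⊓ centralizer ({a * z * z} : Set G)) := by rw [e1]; exact hA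
  have hzK : z ∈ K := hAK hzA
  -- the two counts
  have c1 := card_invSet L hcov ha haL hzL hz haz hA hB hKL hAK hBK
  have c2 := card_invSet L hcov ha haL hzL hz haz hA hB le_rfl hAL hBL
  have c2' := card_invSet L hcov' hb haz'L hzL hz hazz hB hA' le_rfl hBL (by rw [e1]; exact hAL)
  rw [e1] at c2'
  rw [← hAdef, ← hBdef] at c1 c2 c2'
  set mA := (invSet A).ncard with hmA
  set mB := (invSet B).ncard with hmB
  have hτL : τ ∈ L := hDL F.tau_mem
  have hR0 : 0 < (comSet L z).ncard := (Set.ncard_pos (Set.toFinite _)).2 ⟨τ, hτL,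
    by simpa using F.reflection_order 0, fun h => F.tau_not (h ▸ F.z_mem), F.tau_commute_z⟩
  have hmeq : mA = mB := by
    have h : mA * (comSet L z).ncard = mB * (comSet L z).ncard := by
      have := c2.symm.trans c2'
      rw [mul_add, mul_add, mul_comm mA mB] at this
      exact Nat.add_left_cancel this
    exact Nat.eq_of_mul_eq_mul_right hR0 h
  rw [← hmeq] at c1 c2
  have hm : 0 < mA := (Set.ncard_pos (Set.toFinite _)).2 ⟨z, hzA⟩
  -- down to `L`
  have hσL : σ ∈ L := hDL F.sigma_mem
  have FS : Frame (S : Subgroup ↥L) ⟨z, hzL⟩ ⟨σ, hσL⟩ ⟨τ, hτL⟩ j := by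
    have hmem : ∀ x : ↥L, (x : G) ∈ D → x ∈ (S : Subgroup ↥L) := by
      intro x hx
      rw [← hSD] at hx
      obtain ⟨y, hy, hyx⟩ := hx
      rwa [← Subtype.ext hyx]
    have hzp : ∀ x : ↥L, x ∈ zpowers (⟨σ, hσL⟩ : ↥L) ↔ (x : G) ∈ zpowers σ := by
      intro x
      simp only [mem_zpowers_iff, Subtype.ext_iff, SubgroupClass.coe_zpow]
    refine ⟨hmem _ F.sigma_mem, hmem _ F.tau_mem, by rw [orderOf_mk, F.order],
      Subtype.ext ?_, Subtype.ext F.tau_sq, fun h => F.tau_not ((hzp _).1 h),
      Subtype.ext F.inv, fun x hx => ?_⟩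
    · rw [SubmonoidClass.coe_pow]; exact F.half
    · rcases F.cover (x : G) (hSD ▸ ⟨x, hx, rfl⟩) with h | h
      · exact Or.inl ((hzp x).2 h)
      · exact Or.inr ((hzp _).2 h)
  obtain ⟨n, ⟨eS⟩⟩ := hD S
  haveI : Fact (Nat.Prime 2) := ⟨Nat.prime_two⟩
  have hone : ∀ p q : ↥L, orderOf p = 2 → orderOf q = 2 → IsConj p q := by
    intro p q hp hq
    have hO := pResidual_eq_top hna
    let et : (⊤ : Subgroup ↥L) ≃* ↥L := topEquiv
    have hO' : pResidual 2 ↥(⊤ : Subgroup ↥L) = ⊤ := by
      rw [← Transfer.map_pResidual_equiv et.symm, hO]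
      exact map_top_of_surjective _ et.symm.surjective
    have := isConj_in_perfect S FS ⊤ hO' (x := ⟨p, mem_top p⟩) (y := ⟨q, mem_top q⟩)
      (by rw [orderOf_mk, hp]) (by rw [orderOf_mk, hq])
    exact MonoidHom.map_isConj (⊤ : Subgroup ↥L).subtype this
  set H := K.subgroupOf L with hH
  set z' : ↥L := ⟨z, hzL⟩ with hz'
  have hzH : z' ∈ H := mem_subgroupOf.2 hzK
  refine false_of_counts hna S eS FS hone H hzH ?_ ?_ ?_ hm ?_ ?_
  · intro h
    exact hnot (subgroupOf_eq_top.1 h)
  · -- congruences modulo the residual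
    have key : ∀ (x : G) (hx : x ∈ K),
        (⟨⟨x, hKL hx⟩, mem_subgroupOf.2 hx⟩ : ↥H) ∈ pResidual 2 ↥H ∨
          (⟨z', hzH⟩ : ↥H) * ⟨⟨x, hKL hx⟩, mem_subgroupOf.2 hx⟩ ∈ pResidual 2 ↥H := by
      intro x hx
      induction hx using closure_induction with
      | mem u hu =>
        refine Or.inr (Transfer.mem_pResidual_of_coprime (Nat.coprime_two_right.2 ?_))
        rw [← orderOf_coe, ← orderOf_coe]
        show Odd (orderOf (z * u))
        rcases hu with hu | hu
        · exact hA z hzA.1 u hu.1 hz hu.2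
        · exact hB z hzB.1 u hu.1 hz hu.2
      | one => exact Or.inl (one_mem _)
      | mul x y hx hy ihx ihy =>
        set N := pResidual 2 ↥H
        set X' : ↥H := ⟨⟨x, hKL hx⟩, mem_subgroupOf.2 hx⟩
        set Y' : ↥H := ⟨⟨y, hKL hy⟩, mem_subgroupOf.2 hy⟩
        set Z' : ↥H := ⟨z', hzH⟩
        have hZ : Z' * Z' = 1 := Subtype.ext (Subtype.ext hz1)
        have hn : N.Normal := inferInstance
        show X' * Y' ∈ N ∨ Z' * (X' * Y') ∈ N
        rcases ihx with h1 | h1 <;> rcases ihy with h2 | h2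
        · exact Or.inl (mul_mem h1 h2)
        · refine Or.inr ?_
          rw [show Z' * (X' * Y') = Z' * X' * Z'⁻¹ * (Z' * Y') by group]
          exact mul_mem (hn.conj_mem _ h1 _) h2
        · exact Or.inr (by rw [← mul_assoc]; exact mul_mem h1 h2)
        · refine Or.inl ?_
          rw [show X' * Y' = Z'⁻¹ * (Z' * X') * (Z'⁻¹)⁻¹ * ((Z' * Z')⁻¹ * (Z' * Y')) by group, hZ,
            inv_one, one_mul]
          exact mul_mem (hn.conj_mem _ h1 _) h2
      | inv x hx ih =>
        set X' : ↥H := ⟨⟨x, hKL hx⟩, mem_subgroupOf.2 hx⟩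
        set Z' : ↥H := ⟨z', hzH⟩
        have hn : (pResidual 2 ↥H).Normal := inferInstance
        show X'⁻¹ ∈ _ ∨ Z' * X'⁻¹ ∈ _
        rcases ih with h1 | h1
        · exact Or.inl (inv_mem h1)
        · refine Or.inr ?_
          have hZ : Z'⁻¹ = Z' := inv_eq_of_mul_eq_one_right (Subtype.ext (Subtype.ext hz1))
          have h1' := inv_mem h1
          rw [mul_inv_rev, hZ] at h1'
          exact hn.mem_comm h1'
    intro h
    exact key (h : ↥L) (mem_subgroupOf.1 h.2)
  · -- the square root of `z`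
    intro hj x hx
    rw [mem_subgroupOf] at hx ⊢
    set ε := σ ^ (2 ^ (j - 1)) with hε
    have hε2 : ε * ε = z := by
      rw [hε, ← pow_add, ← two_mul, ← pow_succ', show j - 1 + 1 = j by omega, F.half]
    have haε : a * ε * a = ε⁻¹ := by
      have h := conj_pow (a := a) (b := σ) (i := 2 ^ (j - 1))
      rw [hai, haσ, inv_pow] at h
      exact h.symm
    have hea : ε * a * ε⁻¹ = a * z := by
      rw [← haε, show ε * a * (a * ε * a) = ε * (a * a) * ε * a by group, ha1, mul_one, hε2, haz]
    have hez : ε * z * ε⁻¹ = z := by rw [← hε2]; group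
    have heaz : ε * (a * z) * ε⁻¹ = a := by
      rw [show ε * (a * z) * ε⁻¹ = ε * a * ε⁻¹ * (ε * z * ε⁻¹) by group, hea, hez, e1]
    have hεL : ε ∈ L := pow_mem hσL _
    show ε * (x : G) * ε⁻¹ ∈ K
    have hU' : ∀ u ∈ U, ε * u * ε⁻¹ ∈ U := by
      intro u hu
      rcases hu with ⟨hu, hu2⟩ | ⟨hu, hu2⟩
      · obtain ⟨huL, huc⟩ := mem_inf.1 hu
        refine Or.inr ⟨mem_inf.2 ⟨Normal.conj_mem inferInstance _ huL ε, ?_⟩,
          by rw [orderOf_conj, hu2]⟩
        rw [mem_centralizer_singleton_iff, ← hea, conj_commute_iff]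
        exact mem_centralizer_singleton_iff.1 huc
      · obtain ⟨huL, huc⟩ := mem_inf.1 hu
        refine Or.inl ⟨mem_inf.2 ⟨Normal.conj_mem inferInstance _ huL ε, ?_⟩,
          by rw [orderOf_conj, hu2]⟩
        rw [mem_centralizer_singleton_iff, ← heaz, conj_commute_iff]
        exact mem_centralizer_singleton_iff.1 huc
    have : K ≤ K.comap (MulAut.conj ε).toMonoidHom := by
      conv_lhs => rw [hK]
      rw [Subgroup.closure_le]
      exact fun u hu => Subgroup.subset_closure (hU' u hu)
    exact this hx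
  · rw [ncard_invSet_subgroupOf hKL, ncard_comSet_subgroupOf hKL hzL]
    exact c1
  · rw [← subgroupOf_self L, ncard_invSet_subgroupOf le_rfl, ncard_comSet_subgroupOf le_rfl hzL]
    exact c2

/-- Two distinct commuting involutions normalising a simple group with dihedral Sylow
2-subgroups. -/
theorem mul_mem_centralizer (L : Subgroup G) [IsSimpleGroup ↥L]
    (hna : ¬ IsMulCommutative ↥L)
    (hD : ∀ P : Sylow 2 ↥L, ∃ n : ℕ, Nonempty (↥(P : Subgroup ↥L) ≃* DihedralGroup n))
    {a b : G} (ha : orderOf a = 2) (hb : orderOf b = 2) (hc : a * b = b * a)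
    (haL : a ∈ normalizer (L : Set G)) (hbL : b ∈ normalizer (L : Set G))
    (hA : OddProd (L ⊓ centralizer {a})) (hB : OddProd (L ⊓ centralizer {b}))
    (hnot : ¬ L ≤ closure (invSet (L ⊓ centralizer ({a} : Set G)) ∪
      invSet (L ⊓ centralizer ({b} : Set G)))) :
    a * b ∈ centralizer (L : Set G) := by
  haveI : Fact (Nat.Prime 2) := ⟨Nat.prime_two⟩
  by_contra hab
  -- an involution centralising `L` makes `L` odd
  have hout : ∀ v : G, OddProd (L ⊓ centralizer {v}) → v ∈ centralizer (L : Set G) → False := by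
    intro v hv hvC
    have hLv : L ⊓ centralizer ({v} : Set G) = L := by
      refine inf_eq_left.2 fun l hl => ?_
      rw [mem_centralizer_singleton_iff]
      exact (mem_centralizer_iff.1 hvC l hl)
    rw [hLv] at hv
    obtain ⟨S⟩ := (inferInstance : Nonempty (Sylow 2 ↥L))
    obtain ⟨n, ⟨e⟩⟩ := hD S
    have hO := pResidual_eq_top hna
    have hn0 : n ≠ 0 := by
      rintro rfl
      have h := Nat.card_congr e.toEquiv
      rw [DihedralGroup.nat_card, mul_zero] at h
      exact Nat.card_pos.ne' h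
    haveI : NeZero n := ⟨hn0⟩
    set t : ↥L := ((e.symm (DihedralGroup.sr 0) : (S : Subgroup ↥L)) : ↥L) with htdef
    have ht : orderOf t = 2 := by
      rw [htdef, orderOf_coe, MulEquiv.orderOf_eq, DihedralGroup.orderOf_sr]
    by_cases hn : n = 1
    · subst hn
      have h2 : Nat.card (S : Subgroup ↥L) = 2 := by
        rw [Nat.card_congr e.toEquiv, DihedralGroup.nat_card]
      haveI := isCyclic_of_prime_card h2
      obtain ⟨H, hH⟩ := Involution.exists_index_two_of_cyclic_sylow
        (even_iff_two_dvd.2 (ht ▸ orderOf_dvd_natCard t)) S inferInstance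
      haveI := normal_of_index_eq_two hH
      have := Transfer.pResidual_le_of_index (p := 2) (N := H) (n := 1) (by rw [hH, pow_one])
      rw [hO, top_le_iff] at this
      simp [this] at hH
    · have hne : (n : ℕ) ∣ n := dvd_rfl
      obtain ⟨c, hc2, hcc, hct⟩ : ∃ c : (S : Subgroup ↥L), orderOf c = 2 ∧
          c * e.symm (DihedralGroup.sr 0) = e.symm (DihedralGroup.sr 0) * c ∧
          c ≠ e.symm (DihedralGroup.sr 0) := by
        obtain ⟨k, hk⟩ := IsPGroup.iff_card.1 S.isPGroup'
        rw [Nat.card_congr e.toEquiv, DihedralGroup.nat_card] at hk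
        have h2n : 2 ∣ n := by
          rcases k with _ | _ | k
          · omega
          · omega
          · exact ⟨2 ^ k, Nat.eq_of_mul_eq_mul_left two_pos (by rw [hk, pow_succ', pow_succ'])⟩
        obtain ⟨q, hq⟩ := h2n
        refine ⟨e.symm (DihedralGroup.r (q : ZMod n)), ?_, ?_, ?_⟩
        · rw [MulEquiv.orderOf_eq, DihedralGroup.orderOf_r]
          have hqn : q < n := by omega
          rw [ZMod.val_natCast_of_lt hqn, hq, Nat.gcd_mul_left_left,
            Nat.mul_div_cancel _ (by omega)]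
        · rw [← map_mul, ← map_mul, DihedralGroup.r_mul_sr, DihedralGroup.sr_mul_r]
          congr 2
          have : ((q + q : ℕ) : ZMod n) = 0 := by
            rw [show q + q = n by omega, ZMod.natCast_self]
          push_cast at this
          linear_combination -this
        · intro h
          cases e.symm.injective h
      have := hv.eq_of_commute (c : ↥L).2 t.2 (by rw [orderOf_coe, orderOf_coe, hc2])
        (by rw [orderOf_coe, ht]) (congrArg (fun x : (S : Subgroup ↥L) => ((x : ↥L) : G)) hcc)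
      exact hct (Subtype.ext (Subtype.ext this))
  set K := L ⊔ closure ({a, b} : Set G) with hK
  have hLK : L ≤ K := le_sup_left
  have hKn : K ≤ normalizer (L : Set G) :=
    sup_le le_normalizer ((closure_le _).2 (by rintro x (rfl | rfl) <;> assumption))
  haveI : (L.subgroupOf K).Normal := normal_subgroupOf_iff_le_normalizer hLK |>.2 hKn
  set L' := L.subgroupOf K with hL'
  set C := centralizer (L' : Set ↥K) with hCdef
  haveI : C.Normal := Subgroup.normal_centralizer
  set π := QuotientGroup.mk' C with hπ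
  have hmemC : ∀ x : ↥K, x ∈ C ↔ (x : G) ∈ centralizer (L : Set G) := by
    intro x
    simp only [hCdef, mem_centralizer_iff, SetLike.mem_coe, hL', mem_subgroupOf]
    constructor
    · intro h l hl; exact congrArg Subtype.val (h ⟨l, hLK hl⟩ hl)
    · intro h l hl; exact Subtype.ext (h l hl)
  have hker : ∀ x : ↥K, π x = 1 ↔ x ∈ C := fun x => QuotientGroup.eq_one_iff x
  have hinj : ∀ x : ↥K, x ∈ L' → π x = 1 → x = 1 := by
    intro x hx h1
    rw [hker, hmemC] at h1
    have hzc : (⟨x, mem_subgroupOf.1 hx⟩ : ↥L) ∈ center ↥L :=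
      mem_center_iff.2 fun l => Subtype.ext (mem_centralizer_iff.1 h1 l l.2)
    rcases (inferInstance : (center ↥L).Normal).eq_bot_or_eq_top with h | h
    · rw [h, mem_bot] at hzc
      exact Subtype.ext (show (x : G) = 1 from congrArg Subtype.val hzc)
    · exact absurd ⟨⟨fun u w => (mem_center_iff.1 (h ▸ mem_top w : w ∈ center ↥L) u)⟩⟩ hna
  let φ : ↥L →* ↥K ⧸ C := π.comp (inclusion hLK)
  have hφi : Function.Injective φ := by
    rw [injective_iff_map_eq_one]
    intro x hx
    exact Subtype.ext (show (x : G) = 1 from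
      congrArg Subtype.val (hinj (inclusion hLK x) (mem_subgroupOf.2 x.2) hx))
  set Lb := φ.range with hLb
  let eL : ↥L ≃* ↥Lb := MonoidHom.ofInjective hφi
  haveI : Nontrivial ↥Lb := eL.symm.toEquiv.nontrivial
  haveI : IsSimpleGroup ↥Lb := IsSimpleGroup.isSimpleGroup_of_surjective eL.toMonoidHom eL.surjective
  have hLb' : Lb = L'.map π := by
    ext y
    constructor
    · rintro ⟨x, rfl⟩; exact ⟨inclusion hLK x, mem_subgroupOf.2 x.2, rfl⟩
    · rintro ⟨x, hx, rfl⟩; exact ⟨⟨x, mem_subgroupOf.1 hx⟩, rfl⟩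
  haveI : Lb.Normal := hLb' ▸ (inferInstance : L'.Normal).map π (QuotientGroup.mk'_surjective C)
  have haK : a ∈ K := mem_sup_right (Subgroup.subset_closure (Or.inl rfl))
  have hbK : b ∈ K := mem_sup_right (Subgroup.subset_closure (Or.inr rfl))
  set a' := π ⟨a, haK⟩ with ha'
  set b' := π ⟨b, hbK⟩ with hb'
  -- centralisers in the quotient come from centralisers in `L`
  have hpre : ∀ (v : G) (hv : v ∈ K), ∀ y ∈ Lb ⊓ centralizer ({π ⟨v, hv⟩} : Set (↥K ⧸ C)),
      ∃ x : ↥L, φ x = y ∧ (x : G) ∈ L ⊓ centralizer ({v} : Set G) := by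
    intro v hv y hy
    obtain ⟨⟨x, rfl⟩, hyc⟩ := mem_inf.1 hy
    rw [mem_centralizer_singleton_iff] at hyc
    refine ⟨x, rfl, mem_inf.2 ⟨x.2, ?_⟩⟩
    set x' := inclusion hLK x with hx'
    set v' : ↥K := ⟨v, hv⟩ with hv'
    have h1 : π (x' * v' * x'⁻¹ * v'⁻¹) = 1 := by
      show _ = _
      rw [map_mul, map_mul, map_mul, map_inv, map_inv]
      change φ x * π v' * (φ x)⁻¹ * (π v')⁻¹ = 1
      rw [hyc]; group
    have h2 : x' * v' * x'⁻¹ * v'⁻¹ ∈ L' := by
      rw [show x' * v' * x'⁻¹ * v'⁻¹ = x' * (v' * x'⁻¹ * v'⁻¹) by group]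
      have hxL : x' ∈ L' := mem_subgroupOf.2 x.2
      exact mul_mem hxL (Normal.conj_mem inferInstance _ (inv_mem hxL) _)
    have h3 := congrArg Subtype.val (hinj _ h2 h1)
    push_cast at h3
    rw [mul_inv_eq_one, mul_inv_eq_iff_eq_mul] at h3
    rw [mem_centralizer_singleton_iff]
    exact h3
  have hodd : ∀ (v : G) (hv : v ∈ K), OddProd (L ⊓ centralizer {v}) →
      OddProd (Lb ⊓ centralizer ({π ⟨v, hv⟩} : Set (↥K ⧸ C))) := by
    intro v hv hO u hu w hw hu2 hw2
    obtain ⟨x, rfl, hx⟩ := hpre v hv u hu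
    obtain ⟨y, rfl, hy⟩ := hpre v hv w hw
    rw [orderOf_injective φ hφi] at hu2 hw2
    rw [← map_mul, orderOf_injective φ hφi, ← orderOf_coe]
    exact hO x hx y hy (by rw [orderOf_coe, hu2]) (by rw [orderOf_coe, hw2])
  have hord : ∀ (v : G) (hv : v ∈ K), orderOf v = 2 → OddProd (L ⊓ centralizer {v}) →
      orderOf (π ⟨v, hv⟩) = 2 := by
    intro v hv hv2 hO
    refine Involution.orderOf_eq_two_iff'.2 ⟨?_, fun h => hout v hO ((hmemC _).1 ((hker _).1 h))⟩
    rw [← map_mul, show (⟨v, hv⟩ * ⟨v, hv⟩ : ↥K) = 1 from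
      Subtype.ext (Involution.mul_self_of_orderOf hv2), map_one]
  refine false_of_pair Lb ?_ ?_ ?_ (hord a haK ha hA) (hord b hbK hb hB) ?_ ?_ ?_
    (hodd a haK hA) (hodd b hbK hB) ?_
  · intro h
    exact hna ⟨⟨fun x y => eL.injective (by rw [map_mul, map_mul]; exact h.1.1 _ _)⟩⟩
  · rw [eq_bot_iff]
    intro y hy
    obtain ⟨x, rfl⟩ := QuotientGroup.mk'_surjective C y
    rw [mem_bot]
    show π x = 1
    change π x ∈ centralizer _ at hy
    rw [hker, hCdef, mem_centralizer_iff]
    intro l hl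
    have h1 : π (l * x * l⁻¹ * x⁻¹) = 1 := by
      rw [map_mul, map_mul, map_mul, map_inv, map_inv,
        mem_centralizer_iff.1 hy (π l) (hLb'.symm ▸ ⟨l, hl, rfl⟩)]
      group
    have h2 : l * x * l⁻¹ * x⁻¹ ∈ L' := by
      rw [show l * x * l⁻¹ * x⁻¹ = l * (x * l⁻¹ * x⁻¹) by group]
      exact mul_mem hl (Normal.conj_mem inferInstance _ (inv_mem hl) _)
    have h3 := hinj _ h2 h1
    rw [mul_inv_eq_one, mul_inv_eq_iff_eq_mul] at h3
    exact h3
  · intro P
    obtain ⟨n, ⟨e⟩⟩ := hD (P.comapOfInjective eL.toMonoidHom eL.injective (by simp))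
    refine ⟨n, ⟨MulEquiv.trans (MulEquiv.symm ?_) e⟩⟩
    exact eL.subgroupMap _ |>.trans (MulEquiv.subgroupCongr (by
      show map eL.toMonoidHom ((P : Subgroup ↥Lb).comap eL.toMonoidHom) = _
      exact map_comap_eq_self_of_surjective eL.surjective _))
  · intro h
    refine hab ?_
    rw [← inv_eq_of_mul_eq_one_right (Involution.mul_self_of_orderOf ha)]
    exact (hmemC ⟨a⁻¹ * b, mul_mem (inv_mem haK) hbK⟩).1
      (QuotientGroup.eq.1 (show π ⟨a, haK⟩ = π ⟨b, hbK⟩ from h))
  · rw [← map_mul, ← map_mul]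
    exact congrArg π (Subtype.ext hc)
  · rw [eq_top_iff]
    intro y _
    obtain ⟨x, rfl⟩ := QuotientGroup.mk'_surjective C y
    obtain ⟨l, hl, w, hw, hlw⟩ := (mem_sup_of_normal_left (s := L')
      (t := closure ({⟨a, haK⟩, ⟨b, hbK⟩} : Set ↥K)) (x := x)).1 (by
        refine (?_ : (⊤ : Subgroup ↥K) ≤ _) (mem_top x)
        rintro ⟨g, hg⟩ -
        revert hg
        intro hg
        have h : g ∈ (L' ⊔ closure ({⟨a, haK⟩, ⟨b, hbK⟩} : Set ↥K)).map K.subtype := by
          rw [Subgroup.map_sup, MonoidHom.map_closure, hL', subgroupOf_map_subtype, inf_eq_left.2 hLK,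
            Set.image_pair]
          exact hg
        obtain ⟨g', hg', rfl⟩ := h
        exact hg')
    rw [← hlw, map_mul]
    refine mul_mem (mem_sup_left (hLb'.symm ▸ ⟨l, hl, rfl⟩)) (mem_sup_right ?_)
    have := mem_map_of_mem π hw
    rwa [MonoidHom.map_closure, Set.image_pair] at this
  · intro h
    refine hnot fun l hl => ?_
    have h1 : closure (invSet (Lb ⊓ centralizer ({a'} : Set (↥K ⧸ C))) ∪
        invSet (Lb ⊓ centralizer ({b'} : Set (↥K ⧸ C)))) ≤
      ((closure (invSet (L ⊓ centralizer ({a} : Set G)) ∪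
        invSet (L ⊓ centralizer ({b} : Set G)))).subgroupOf L).map φ := by
      rw [Subgroup.closure_le]
      rintro u (⟨hu, hu2⟩ | ⟨hu, hu2⟩)
      · obtain ⟨x, rfl, hx⟩ := hpre a haK u hu
        rw [orderOf_injective φ hφi] at hu2
        exact ⟨x, mem_subgroupOf.2 (Subgroup.subset_closure (Or.inl ⟨hx, by rw [orderOf_coe, hu2]⟩)),
          rfl⟩
      · obtain ⟨x, rfl, hx⟩ := hpre b hbK u hu
        rw [orderOf_injective φ hφi] at hu2
        exact ⟨x, mem_subgroupOf.2 (Subgroup.subset_closure (Or.inr ⟨hx, by rw [orderOf_coe, hu2]⟩)),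
          rfl⟩
    obtain ⟨x, hx, hxl⟩ := h1 (h ⟨⟨l, hl⟩, rfl⟩)
    have := mem_subgroupOf.1 hx
    rwa [hφi hxl] at this

end Cfsg.Agent.DihInner81
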